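import Groth.Agent.HM8.Reduce
import Groth.Prelude.Def_SGA3t2b

/-!
# A one-parameter subgroup from an integral valued point
-/

set_option autoImplicit false
set_option backward.isDefEq.respectTransparency false
set_option backward.isDefEq.respectTransparency.types false

universe u v

noncomputable section

open CoordGrp TensorProduct TrivSqZeroExt
open CoalgebraStruct (comul counit)
open scoped DualNumber LaurentPolynomial

namespace Groth.Agent.HM8

variable {k : Type u} [Field k] {N : ℕ}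

/-- `T ^ n` as a unit. -/
def Tu (n : ℤ) : (k[T;T⁻¹])ˣ :=
  ⟨LaurentPolynomial.T n, LaurentPolynomial.T (-n),
    by rw [← LaurentPolynomial.T_add, add_neg_cancel, LaurentPolynomial.T_zero],
    by rw [← LaurentPolynomial.T_add, neg_add_cancel, LaurentPolynomial.T_zero]⟩

theorem Tu_zpow (n e : ℤ) : ((Tu (k := k) n ^ e : (k[T;T⁻¹])ˣ) : k[T;T⁻¹]) = LaurentPolynomial.T (n * e) := by
  cases e with
  | ofNat m => simp [Tu, LaurentPolynomial.T_pow, mul_comm]
  | negSucc m =>
    rw [zpow_negSucc, ← inv_pow, Units.val_pow_eq_pow_val]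
    show (LaurentPolynomial.T (-n) : k[T;T⁻¹]) ^ (m + 1) = _
    rw [LaurentPolynomial.T_pow, Int.negSucc_eq]
    congr 1
    push_cast
    ring

variable {A : Type u} [CommRing A] [HopfAlgebra k A] {π : GLn N k →ₐc[k] A} (F : Frame π)

theorem Frame.prod_Tu (r : Fin N → ℤ) (l : Fin F.r) :
    ((∏ b, Tu (k := k) (r b) ^ F.w l b : (k[T;T⁻¹])ˣ) : k[T;T⁻¹]) = LaurentPolynomial.T (F.wt r l) := by
  rw [Units.coe_prod, Frame.wt]
  simp only [Tu_zpow, CoordGrp.GLn.prod_T]
  exact congrArg _ (Finset.sum_congr rfl fun b _ => mul_comm _ _)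

theorem isUnit_det_diagT (φ : GLn N k →ₐ[k] k[T;T⁻¹]) (r : Fin N → ℤ) :
    IsUnit (mat φ * Matrix.diagonal fun b => (Tu (k := k) (r b) : k[T;T⁻¹])).det := by
  rw [Matrix.det_mul, Matrix.det_diagonal]
  exact (isUnit_det_mat _).mul (IsUnit.prod_iff.2 fun b _ => Units.isUnit _)

theorem laurent_apply (P : GLn N k →ₐ[k] k) (r : Fin N → ℤ) (θ : GLn N k →ₐ[k] k[T;T⁻¹])
    (h : mat θ = mat ((Algebra.ofId k k[T;T⁻¹]).comp P) * Matrix.diagonal fun b => (Tu (k := k) (r b) : k[T;T⁻¹]))
    (l : Fin F.r) : θ (F.f l) = algebraMap k k[T;T⁻¹] (P (F.f l)) * LaurentPolynomial.T (F.wt r l) := by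
  rw [apply_mul_diag (F.weight l) _ θ _ h, F.prod_Tu]
  rfl

variable [IsAlgClosed k] [CharZero k]

omit [CharZero k] in
theorem Frame.exists_fixed (P : GLn N k →ₐ[k] k) (r : Fin N → ℤ) (hneg : ∀ l, F.wt r l < 0 → P (F.f l) = 0) :
    ∃ H : GLn N k →ₐ[k] k, (∀ l, F.wt r l = 0 → P (F.f l) = H (F.f l)) ∧ ∀ l, F.wt r l ≠ 0 → H (F.f l) = 0 := by
  classical
  let p : Fin F.r → Polynomial k := fun l => Polynomial.monomial (F.wt r l).toNat (P (F.f l))
  let θ := ptU (k := k) _ (isUnit_det_diagT ((Algebra.ofId k k[T;T⁻¹]).comp P) r)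
  have hp : ∀ l, Polynomial.toLaurentAlg (p l) = θ (F.f l) := fun l => by
    rw [laurent_apply F P r θ (mat_ptU _ _)]
    by_cases h : F.wt r l < 0
    · simp [p, hneg l h]
    · simp only [p]
      rw [Polynomial.toLaurentAlg_apply, ← Polynomial.C_mul_X_pow_eq_monomial,
        Polynomial.toLaurent_C_mul_X_pow, Int.toNat_of_nonneg (not_lt.1 h)]
      rfl
  obtain ⟨H, hH⟩ := F.lift (MvPolynomial.aeval fun l => if F.wt r l = 0 then P (F.f l) else 0) fun G hG => by
    have hp0 : MvPolynomial.aeval p G = 0 := by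
      apply Polynomial.toLaurent_injective
      rw [map_zero, ← Polynomial.toLaurentAlg_apply, ← AlgHom.comp_apply, MvPolynomial.comp_aeval]
      simp only [hp]
      rw [← MvPolynomial.comp_aeval, AlgHom.comp_apply, hG, map_zero]
    have h2 := congrArg (Polynomial.aeval (0 : k)) hp0
    rw [map_zero, ← AlgHom.comp_apply, MvPolynomial.comp_aeval] at h2
    refine Eq.trans ?_ h2
    congr 2
    funext l
    simp only [p, Polynomial.aeval_monomial]
    rcases lt_trichotomy (F.wt r l) 0 with h | h | h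
    · simp [hneg l h, h.ne]
    · simp [h]
    · rw [if_neg h.ne', zero_pow (by omega), mul_zero]
  refine ⟨H, fun l hl => ?_, fun l hl => ?_⟩
  · rw [hH, MvPolynomial.aeval_X, if_pos hl]
  · rw [hH, MvPolynomial.aeval_X, if_neg hl]

omit [IsAlgClosed k] [CharZero k] in
theorem snd_aeval_eps (p : Polynomial k) : (Polynomial.aeval (DualNumber.eps : k[ε]) p).snd = p.coeff 1 := by
  induction p using Polynomial.induction_on' with
  | add p q hp hq => simp [hp, hq]
  | monomial n c =>
    rw [Polynomial.aeval_monomial, Polynomial.coeff_monomial]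
    rcases n with _ | _ | n
    · simp [TrivSqZeroExt.algebraMap_eq_inl]
    · simp [TrivSqZeroExt.algebraMap_eq_inl]
    · rw [show n + 1 + 1 = 2 + n by ring, pow_add, pow_two, DualNumber.eps_mul_eps, zero_mul, mul_zero,
        TrivSqZeroExt.snd_zero, if_neg (by omega)]

omit [IsAlgClosed k] [CharZero k] in
theorem coeff_T_mul (m : ℕ) (hm : 0 < m) (w e : ℤ) (hw : w = 0 ∨ (m : ℤ) ≤ w) (he : e ≤ m) (p : Polynomial k) :
    (LaurentPolynomial.T w * Polynomial.aeval (LaurentPolynomial.T (m : ℤ) : k[T;T⁻¹]) p).coeff e =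
      (if w = e then p.coeff 0 else 0) + if w = 0 ∧ e = m then p.coeff 1 else 0 := by
  induction p using Polynomial.induction_on' with
  | add p q hp hq =>
    rw [map_add, mul_add, AddMonoidAlgebra.coeff_add, Finsupp.add_apply, hp, hq, Polynomial.coeff_add,
      Polynomial.coeff_add]
    split_ifs <;> ring
  | monomial n c =>
    rw [Polynomial.aeval_monomial, LaurentPolynomial.T_pow, ← mul_assoc, mul_comm (LaurentPolynomial.T w), mul_assoc,
      ← LaurentPolynomial.T_add]
    rw [show algebraMap k k[T;T⁻¹] c = LaurentPolynomial.C c from rfl, ← LaurentPolynomial.single_eq_C_mul_T,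
      AddMonoidAlgebra.coeff_single, Finsupp.single_apply, Polynomial.coeff_monomial, Polynomial.coeff_monomial]
    rcases n with _ | _ | n
    · simp
    · simp
      split_ifs <;> first | rfl | (simp; omega) | omega
    · have : w + (↑(n + 1 + 1) : ℤ) * (m : ℤ) ≠ e := by
        push_cast
        rcases hw with h | h <;> nlinarith
      rw [if_neg this]
      simp

/-- One step of the correction. -/
theorem Frame.step (H P : GLn N k →ₐ[k] k) (r : Fin N → ℤ) {m : ℕ} (hm : 0 < m)
    (hfix : ∀ l, F.wt r l ≠ 0 → H (F.f l) = 0)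
    (hneg : ∀ l, F.wt r l < 0 → P (F.f l) = 0) (h0 : ∀ l, F.wt r l = 0 → P (F.f l) = H (F.f l))
    (hlow : ∀ l, 0 < F.wt r l → F.wt r l < m → P (F.f l) = 0) :
    ∃ P' : GLn N k →ₐ[k] k, (∀ l, F.wt r l < 0 → P' (F.f l) = 0) ∧
      (∀ l, F.wt r l = 0 → P' (F.f l) = H (F.f l)) ∧
      (∀ l, 0 < F.wt r l → F.wt r l < (m + 1 : ℕ) → P' (F.f l) = 0) ∧
      ∀ (w : Fin N → k) (bad : Fin N → Prop), (∀ a b, bad b → r a < r b → bad a) →
        (∀ j, bad j → Matrix.vecMul w (mat P) j = 0) → ∀ j, bad j → Matrix.vecMul w (mat P') j = 0 := by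
  classical
  obtain ⟨ξ₀, hξ₀⟩ := F.exists_L_eq H (F.isTan_lowest H P r hm hfix hneg h0 hlow)
  let ξ : Matrix (Fin N) (Fin N) k := fun a b => if r b - r a = m then -ξ₀ a b else 0
  have hL : ∀ i, F.wt r i = m → L H ξ (F.f i) = -P (F.f i) := fun i hi => by
    have h1 := hξ₀ i
    rw [F.L_weight H r hfix ξ₀ i, if_pos hi] at h1
    rw [← h1, L, L, ← Finset.sum_neg_distrib]
    refine Finset.sum_congr rfl fun a _ => ?_
    rw [← Finset.sum_neg_distrib]
    refine Finset.sum_congr rfl fun b _ => ?_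
    simp only [ξ, hi]
    split_ifs <;> ring
  have hnil : IsNilpotent ξ := by
    have hpow : ∀ (j : ℕ) (a b : Fin N), (ξ ^ j) a b ≠ 0 → r b - r a = j * m := by
      intro j
      induction j with
      | zero =>
        intro a b h
        by_cases hab : a = b
        · simp [hab]
        · simp [hab] at h
      | succ j ih =>
        intro a b h
        rw [pow_succ, Matrix.mul_apply] at h
        obtain ⟨c, -, hc⟩ := Finset.exists_ne_zero_of_sum_ne_zero h
        have h1 := ih a c (left_ne_zero_of_mul hc)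
        have h2 : r b - r c = m := by
          by_contra h3
          exact right_ne_zero_of_mul hc (if_neg h3)
        push_cast
        linarith
    refine ⟨(2 * ∑ l, |r l|).toNat + 1, Matrix.ext fun a b => ?_⟩
    by_contra h
    have h1 := hpow _ a b h
    have hb : ∀ l, |r l| ≤ ∑ l, |r l| := fun l =>
      Finset.single_le_sum (fun l _ => abs_nonneg (r l)) (Finset.mem_univ l)
    have := hb a
    have := hb b
    have hnn : 0 ≤ ∑ l, |r l| := Finset.sum_nonneg fun l _ => abs_nonneg _
    have h2 : r b - r a ≤ 2 * ∑ l, |r l| := by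
      have := le_abs_self (r b); have := neg_le_abs (r a); linarith
    have h3 : ((2 * ∑ l, |r l|).toNat : ℤ) = 2 * ∑ l, |r l| := Int.toNat_of_nonneg (by linarith)
    push_cast at h1
    rw [h3] at h1
    have hm1 : (1 : ℤ) ≤ m := by exact_mod_cast hm
    nlinarith
  have hXξ : IsUnit (1 + (Polynomial.X : Polynomial k) • ξ.map Polynomial.C).det := by
    rw [← Matrix.isUnit_iff_isUnit_det]
    refine IsNilpotent.isUnit_one_add ?_
    obtain ⟨n, hn⟩ := hnil
    refine ⟨n, ?_⟩
    rw [smul_pow, ← RingHom.mapMatrix_apply, ← map_pow, hn, map_zero, smul_zero]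
  let ψ := ptU (k := k) _ hXξ
  have hψ0 : ∀ i l, (ψ (F.c i l)).coeff 0 = if l = i then 1 else 0 := fun i l => by
    rw [Polynomial.coeff_zero_eq_aeval_zero]
    refine F.coeff_eq (g := fun l => ((Polynomial.aeval (0 : k)).comp ψ) (F.c i l)) (fun θ => ?_) l
    rw [apply_eq_of_mul (φ := θ) (ψ := (Polynomial.aeval (0 : k)).comp ψ) (θ := θ) ?_ (F.comul_f i)]
    · exact Finset.sum_congr rfl fun j _ => mul_comm _ _
    · rw [mat_comp, mat_ptU]
      have : (1 + (Polynomial.X : Polynomial k) • ξ.map Polynomial.C).map (Polynomial.aeval (0 : k)) = 1 := by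
        ext a b; by_cases hab : a = b <;> simp [hab, Matrix.one_apply]
      rw [this, mul_one]
  have hψ1 : ∀ i l, (ψ (F.c i l)).coeff 1 = L (onePt (k := k) (B := k)) ξ (F.c i l) := fun i l => by
    rw [← snd_aeval_eps, ← AlgHom.comp_apply, ← snd_tangent]
    refine congrArg TrivSqZeroExt.snd (AlgHom.congr_fun (pt_ext ?_) _)
    rw [mat_comp, mat_ptU, mat_tangent]
    ext a b
    · by_cases hab : a = b <;> simp [tMat, mat_onePt, hab, TrivSqZeroExt.algebraMap_eq_inl]
    · by_cases hab : a = b <;> simp [tMat, mat_onePt, hab, TrivSqZeroExt.algebraMap_eq_inl]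
  have hP' : IsUnit (mat P * (1 + ξ)).det := by
    rw [Matrix.det_mul]
    exact (isUnit_det_mat P).mul ((Matrix.isUnit_iff_isUnit_det _).1 hnil.isUnit_one_add)
  let P' := ptU (k := k) _ hP'
  let ι : k →ₐ[k] k[T;T⁻¹] := Algebra.ofId k _
  let θ := ptU (k := k) _ (isUnit_det_diagT (ι.comp P) r)
  let θ' := ptU (k := k) _ (isUnit_det_diagT (ι.comp P') r)
  let ψm := (Polynomial.aeval (LaurentPolynomial.T (m : ℤ) : k[T;T⁻¹])).comp ψ
  have hmul : mat θ * mat ψm = mat θ' := by
    rw [mat_ptU, mat_ptU, mat_comp, mat_comp, mat_comp, mat_ptU, mat_ptU]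
    ext1 a b
    simp only [Matrix.mul_apply, Matrix.map_apply, Matrix.add_apply, Matrix.smul_apply, Matrix.diagonal_apply,
      smul_eq_mul, mul_ite, mul_zero, Finset.sum_ite_eq', Finset.mem_univ, if_true, map_add, map_mul, map_sum,
      Polynomial.aeval_X, Polynomial.aeval_C, ι, Algebra.ofId_apply, Finset.sum_mul]
    refine Finset.sum_congr rfl fun c _ => ?_
    by_cases hcb : c = b
    · subst hcb
      have hz : ξ c c = 0 := if_neg (by omega)
      simp [hz]
    · simp only [Matrix.one_apply_ne hcb, map_zero, zero_add]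
      by_cases hw : r b - r c = m
      · have hT : (Tu (k := k) (r b) : k[T;T⁻¹]) = (Tu (k := k) (r c) : k[T;T⁻¹]) * LaurentPolynomial.T (m : ℤ) := by
          simp only [Tu]
          rw [← LaurentPolynomial.T_add]
          congr 1
          omega
        rw [hT]; ring
      · simp [ξ, hw]
  have key : ∀ i, F.wt r i ≤ m → P' (F.f i) =
      P (F.f i) + if F.wt r i = m then L H ξ (F.f i) else 0 := by
    intro i hi
    have h1 := laurent_apply F P' r θ' (mat_ptU _ _) i
    rw [apply_eq_of_mul hmul (F.comul_f i)] at h1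
    have h2 := congrArg (fun x : k[T;T⁻¹] => x.coeff (F.wt r i)) h1
    simp only [AddMonoidAlgebra.coeff_sum, Finsupp.finsetSum_apply] at h2
    rw [show algebraMap k k[T;T⁻¹] (P' (F.f i)) = LaurentPolynomial.C (P' (F.f i)) from rfl,
      ← LaurentPolynomial.single_eq_C_mul_T, AddMonoidAlgebra.coeff_single, Finsupp.single_eq_same] at h2
    rw [← h2]
    have hterm : ∀ l, (θ (F.f l) * ψm (F.c i l)).coeff (F.wt r i) =
        (if l = i then P (F.f i) else 0) +
          if F.wt r i = m then H (F.f l) * L (onePt (k := k) (B := k)) ξ (F.c i l) else 0 := by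
      intro l
      rw [laurent_apply F P r θ (mat_ptU _ _), mul_assoc, ← Algebra.smul_def, AddMonoidAlgebra.coeff_smul,
        Finsupp.smul_apply, smul_eq_mul]
      by_cases hx : F.wt r l ≠ 0 ∧ (F.wt r l < m)
      · have hPl : P (F.f l) = 0 := by
          rcases lt_or_gt_of_ne hx.1 with h | h
          · exact hneg l h
          · exact hlow l h hx.2
        rw [hPl, zero_mul, hfix l hx.1, zero_mul, ite_self, add_zero]
        split_ifs with hl
        · subst hl; rw [hPl]
        · rfl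
      · rw [AlgHom.comp_apply, coeff_T_mul m hm _ _ (by omega) hi, hψ0, hψ1, mul_add]
        congr 1
        · by_cases hl : l = i
          · subst hl; simp
          · simp [hl]
        · by_cases hl0 : F.wt r l = 0
          · simp [hl0, h0 l hl0]
          · simp [hl0, hfix l hl0]
    simp only [hterm, Finset.sum_add_distrib, Finset.sum_ite_eq', Finset.mem_univ, if_true]
    congr 1
    split_ifs
    · exact (L_onePt_expand (F.comul_f i) H ξ).symm
    · simp
  refine ⟨P', fun l hl => ?_, fun l hl => ?_, fun l hl hl' => ?_, fun w bad hbad hP j hj => ?_⟩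
  · rw [key l (by omega), hneg l hl, if_neg (by omega), add_zero]
  · rw [key l (by omega), h0 l hl, if_neg (by omega), add_zero]
  · rw [key l (by push_cast at hl'; omega)]
    split_ifs with h
    · rw [hL l h, add_neg_cancel]
    · rw [hlow l hl (by push_cast at hl'; omega), add_zero]
  · simp only [P', mat_ptU]
    rw [← Matrix.vecMul_vecMul, Matrix.vecMul, dotProduct]
    refine Finset.sum_eq_zero fun a _ => ?_
    by_cases hab : a = j
    · subst hab; rw [hP _ hj, zero_mul]
    · rw [Matrix.add_apply, Matrix.one_apply_ne hab, zero_add]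
      by_cases hw : r j - r a = m
      · rw [hP a (hbad a j hj (by omega)), zero_mul]
      · simp [ξ, hw]

/-- A point with all weights off zero killed. -/
theorem Frame.exists_centred (P : GLn N k →ₐ[k] k) (r : Fin N → ℤ) (hneg : ∀ l, F.wt r l < 0 → P (F.f l) = 0) :
    ∃ P' : GLn N k →ₐ[k] k, (∀ l, F.wt r l ≠ 0 → P' (F.f l) = 0) ∧
      ∀ (w : Fin N → k) (bad : Fin N → Prop), (∀ a b, bad b → r a < r b → bad a) →
        (∀ j, bad j → Matrix.vecMul w (mat P) j = 0) → ∀ j, bad j → Matrix.vecMul w (mat P') j = 0 := by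
  obtain ⟨H, hH0, hfix⟩ := F.exists_fixed P r hneg
  have key : ∀ m : ℕ, ∃ P' : GLn N k →ₐ[k] k, (∀ l, F.wt r l < 0 → P' (F.f l) = 0) ∧
      (∀ l, F.wt r l = 0 → P' (F.f l) = H (F.f l)) ∧
      (∀ l, 0 < F.wt r l → F.wt r l < (m + 1 : ℕ) → P' (F.f l) = 0) ∧
      ∀ (w : Fin N → k) (bad : Fin N → Prop), (∀ a b, bad b → r a < r b → bad a) →
        (∀ j, bad j → Matrix.vecMul w (mat P) j = 0) → ∀ j, bad j → Matrix.vecMul w (mat P') j = 0 := by
    intro m
    induction m with
    | zero => exact ⟨P, hneg, hH0, fun l h h' => by omega, fun w bad _ h => h⟩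
    | succ m ih =>
      obtain ⟨P₁, a, b, c, d⟩ := ih
      obtain ⟨P₂, a', b', c', d'⟩ := F.step H P₁ r (Nat.succ_pos m) hfix a b c
      exact ⟨P₂, a', b', c', fun w bad hb h => d' w bad hb (d w bad hb h)⟩
  obtain ⟨P', a, b, c, d⟩ := key (∑ l, (F.wt r l).natAbs)
  refine ⟨P', fun l hl => ?_, d⟩
  rcases lt_or_gt_of_ne hl with h | h
  · exact a l h
  · refine c l h ?_
    have := Finset.single_le_sum (f := fun l => (F.wt r l).natAbs) (fun _ _ => Nat.zero_le _) (Finset.mem_univ l)
    omega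

omit [IsAlgClosed k] [CharZero k] in
theorem laurent_eq_zero [Infinite k] (x : k[T;T⁻¹])
    (h : ∀ (t : k) (ht : t ≠ 0), InvQ8.SemiInv.evalT t ht x = 0) : x = 0 := by
  obtain ⟨n, p, hp⟩ := x.exists_T_pow
  have h0 : p = 0 := InvQ8.SemiInv.poly_ext fun t ht => by
    rw [← InvQ8.SemiInv.evalT_toLaurent t ht, Polynomial.toLaurentAlg_apply, hp, map_mul, h t ht, zero_mul,
      Polynomial.eval_zero]
  rw [h0, map_zero] at hp
  exact (IsUnit.mul_left_eq_zero (IsUnit.of_mul_eq_one (LaurentPolynomial.T (-(n : ℤ)))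
    (by rw [← LaurentPolynomial.T_add, add_neg_cancel, LaurentPolynomial.T_zero]))).1 hp.symm

variable [Algebra.FiniteType k A]

/-- The coordinates of a moved vector. -/
def cw (π : GLn N k →ₐc[k] A) (w : Fin N → k) (j : Fin N) : A := ∑ a, w a • π (GLn.X a j)

/-- The main statement. -/
theorem exists_oneParam (π : GLn N k →ₐc[k] A) (hπ : Function.Surjective π)
    (hG : HopfRep.IsLinearlyReductive k A) (w : Fin N → k) {K : Type u} [Field K] [Algebra k K]
    (O : ValuationSubring K) (hk : ∀ c : k, algebraMap k K c ∈ O) (ψ : A →ₐ[k] K)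
    (hint : ∀ j, ψ (cw π w j) ∈ O) :
    ∃ lam : A →ₐc[k] k[T;T⁻¹],
      (∀ j, ∃ p : Polynomial k, Polynomial.toLaurentAlg p = lam (cw π w j) ∧
        ((∀ j, O.valuation (ψ (cw π w j)) < 1) → p.coeff 0 = 0)) ∧
      ((∃ a, ψ a ∉ O) → ¬ SGA3t2b.IsTrivialBialgHom lam) := by
  classical
  obtain ⟨F⟩ := exists_frame π hπ hG
  let M : GLn N k →ₐ[k] K := ψ.comp (π : GLn N k →ₐ[k] A)
  have hcw : ∀ j, ψ (cw π w j) = ∑ a, algebraMap k K (w a) * mat M a j := fun j => by
    simp [cw, M, mat, Algebra.smul_def]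
  obtain ⟨r, P₀, hv, hvs, hneg, hr⟩ := F.exists_weights O hk M (fun l => by
    show ψ (π (F.f l)) = _
    rw [F.const, AlgHom.commutes]) w (fun j => hcw j ▸ hint j)
  obtain ⟨P, hP, hbad⟩ := F.exists_centred P₀ r hneg
  let ι : k →ₐ[k] k[T;T⁻¹] := Algebra.ofId k _
  let D : Matrix (Fin N) (Fin N) k[T;T⁻¹] := Matrix.diagonal fun b => (Tu (k := k) (r b) : k[T;T⁻¹])
  have hu : IsUnit (mat (ι.comp P) * D * mat (ι.comp (ptInv P))).det := by
    rw [Matrix.det_mul]
    exact (isUnit_det_diagT _ r).mul (isUnit_det_mat _)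
  let lR := ptU (k := k) _ hu
  have hcancel : mat P * mat (ptInv P) = 1 := mat_ptInv P
  have hker : ∀ a, π a = 0 → lR a = 0 := fun a ha => by
    refine laurent_eq_zero _ fun t ht => ?_
    let ev := InvQ8.SemiInv.evalT t ht
    refine F.sep (ev.comp lR) (fun i => ?_) a ha
    let θ := ptU (k := k) _ (isUnit_det_diagT (ι.comp P) r)
    have hm : mat θ * mat (ι.comp (ptInv P)) = mat lR := by rw [mat_ptU, mat_ptU]
    rw [AlgHom.comp_apply, apply_eq_of_mul hm (F.comul_f i), map_sum]
    have h1 : counit (R := k) (F.f i) = conv P (ptInv P) (F.f i) := by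
      refine AlgHom.congr_fun (pt_ext (φ := Bialgebra.counitAlgHom k (GLn N k)) (ψ := conv P (ptInv P)) ?_) (F.f i)
      rw [mat_conv, mat_ptInv]
      funext a b
      simp [mat, GLn.counit_X, Matrix.one_apply]
    rw [h1, conv_apply (F.comul_f i)]
    refine Finset.sum_congr rfl fun l _ => ?_
    rw [laurent_apply F P r θ (mat_ptU _ _), map_mul, map_mul, AlgHom.commutes]
    by_cases hl : F.wt r l = 0
    · simp only [hl, LaurentPolynomial.T_zero, map_one, mul_one]
      exact congrArg _ ((ev).commutes _)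
    · simp [hP l hl]
  have hker' : RingHom.ker (π : GLn N k →ₐ[k] A).toRingHom ≤ RingHom.ker lR.toRingHom :=
    fun a ha => RingHom.mem_ker.2 (hker a (RingHom.mem_ker.1 ha))
  let lA : A →ₐ[k] k[T;T⁻¹] := AlgHom.liftOfSurjective (π : GLn N k →ₐ[k] A) hπ lR hker'
  have hlA : ∀ x, lA (π x) = lR x := fun x =>
    AlgHom.congr_fun (AlgHom.liftOfSurjective_comp (π : GLn N k →ₐ[k] A) hπ lR hker') x
  have hlR : mat lR = mat (ι.comp P) * D * mat (ι.comp (ptInv P)) := mat_ptU _ _
  have hcounit : (Bialgebra.counitAlgHom k k[T;T⁻¹]).comp lA = Bialgebra.counitAlgHom k A := by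
    have h1 : (Bialgebra.counitAlgHom k k[T;T⁻¹]).comp lR = Bialgebra.counitAlgHom k (GLn N k) := by
      refine pt_ext ?_
      rw [mat_comp, hlR, Matrix.map_mul, Matrix.map_mul]
      have hD : D.map (Bialgebra.counitAlgHom k k[T;T⁻¹]) = 1 := by
        ext a b
        by_cases hab : a = b <;> simp [D, Tu, hab, Matrix.one_apply]
      have hι : ∀ Q : GLn N k →ₐ[k] k, (mat (ι.comp Q)).map (Bialgebra.counitAlgHom k k[T;T⁻¹]) = mat Q := fun Q => by
        ext a b
        show Bialgebra.counitAlgHom k k[T;T⁻¹] (algebraMap k _ (Q (GLn.X a b))) = _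
        rw [AlgHom.commutes]
        rfl
      rw [hD, hι, hι, mul_one, hcancel]
      funext a b
      simp [mat, GLn.counit_X, Matrix.one_apply]
    refine AlgHom.ext fun a => ?_
    obtain ⟨x, rfl⟩ := hπ a
    rw [AlgHom.comp_apply, hlA, ← AlgHom.comp_apply, h1]
    exact (CoalgHomClass.counit_comp_apply π x).symm
  have hcomul : (Algebra.TensorProduct.map lA lA).comp (Bialgebra.comulAlgHom k A) =
      (Bialgebra.comulAlgHom k k[T;T⁻¹]).comp lA := by
    have h1 : (Algebra.TensorProduct.map lR lR).comp (Bialgebra.comulAlgHom k (GLn N k)) =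
        (Bialgebra.comulAlgHom k k[T;T⁻¹]).comp lR := by
      refine pt_ext ?_
      let iL : k[T;T⁻¹] →ₐ[k] k[T;T⁻¹] ⊗[k] k[T;T⁻¹] := Algebra.TensorProduct.includeLeft
      let iR : k[T;T⁻¹] →ₐ[k] k[T;T⁻¹] ⊗[k] k[T;T⁻¹] := Algebra.TensorProduct.includeRight
      have hl : mat ((Algebra.TensorProduct.map lR lR).comp (Bialgebra.comulAlgHom k (GLn N k))) =
          (mat lR).map iL * (mat lR).map iR := by
        funext a b
        simp [mat, GLn.comul_X, Matrix.mul_apply, iL, iR]
      have hc : ∀ (g : k[T;T⁻¹] →ₐ[k] k[T;T⁻¹] ⊗[k] k[T;T⁻¹]) (Q : GLn N k →ₐ[k] k),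
          (mat (ι.comp Q)).map g = (mat Q).map (algebraMap k (k[T;T⁻¹] ⊗[k] k[T;T⁻¹])) := fun g Q => by
        ext a b
        show g (algebraMap k _ (Q (GLn.X a b))) = _
        rw [AlgHom.commutes]
        rfl
      have hD : D.map iL * D.map iR = D.map (Bialgebra.comulAlgHom k k[T;T⁻¹]) := by
        ext a b
        by_cases hab : a = b
        · subst hab; simp [D, Tu, iL, iR, Matrix.diagonal_map, Matrix.diagonal_mul_diagonal]
        · simp [D, Tu, iL, iR, Matrix.diagonal_map, Matrix.diagonal_mul_diagonal, hab]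
      rw [hl, mat_comp, hlR]
      simp only [Matrix.map_mul, hc]
      rw [← hD]
      have hQ : (mat (ptInv P)).map (algebraMap k (k[T;T⁻¹] ⊗[k] k[T;T⁻¹])) *
          (mat P).map (algebraMap k (k[T;T⁻¹] ⊗[k] k[T;T⁻¹])) = 1 := by
        rw [← Matrix.map_mul, mul_eq_one_comm.1 hcancel, Matrix.map_one _ (map_zero _) (map_one _)]
      simp only [mul_assoc]
      rw [← mul_assoc _ ((mat P).map _) _, hQ, one_mul]
    refine AlgHom.ext fun a => ?_
    obtain ⟨x, rfl⟩ := hπ a
    simp only [AlgHom.comp_apply, Bialgebra.comulAlgHom_apply]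
    rw [hlA, ← CoalgHomClass.map_comp_comul_apply π x]
    refine Eq.trans ?_ (AlgHom.congr_fun h1 x)
    simp only [AlgHom.comp_apply, Bialgebra.comulAlgHom_apply]
    generalize comul (R := k) x = t
    induction t using TensorProduct.induction_on with
    | zero => simp
    | add p q hp hq => simp only [map_add, hp, hq]
    | tmul p q => simp [hlA]
  let lam : A →ₐc[k] k[T;T⁻¹] := BialgHom.ofAlgHom lA hcounit hcomul
  have hlam : ∀ x, lam (π x) = lR x := hlA
  have hentry : ∀ j, lam (cw π w j) = ∑ l, Matrix.vecMul w (mat P) l •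
      (mat (ptInv P) l j • (LaurentPolynomial.T (r l) : k[T;T⁻¹])) := fun j => by
    rw [cw, map_sum]
    simp only [map_smul, hlam]
    simp only [show ∀ a, lR (GLn.X a j) = mat lR a j from fun _ => rfl, hlR, Matrix.mul_apply, D,
      Matrix.diagonal_apply, mul_ite, mul_zero, Finset.sum_ite_eq', Finset.mem_univ, if_true, Finset.smul_sum,
      Matrix.vecMul, dotProduct, Finset.sum_smul]
    rw [Finset.sum_comm]
    refine Finset.sum_congr rfl fun l _ => Finset.sum_congr rfl fun a _ => ?_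
    simp [mat_comp, ι, Algebra.ofId_apply, Algebra.smul_def, Tu]
    ring
  refine ⟨lam, fun j => ⟨∑ l, Matrix.vecMul w (mat P) l • (mat (ptInv P) l j •
      (Polynomial.X ^ (r l).toNat : Polynomial k)), ?_, fun hs => ?_⟩, fun ⟨x, hx⟩ htriv => ?_⟩
  · rw [hentry, map_sum]
    refine Finset.sum_congr rfl fun l _ => ?_
    by_cases hl : r l < 0
    · rw [hbad w (fun j => r j < 0) (fun a b hb hab => hab.trans hb) hv l hl, zero_smul, zero_smul, map_zero]
    · rw [map_smul, map_smul, map_pow, Polynomial.toLaurentAlg_apply, Polynomial.toLaurent_X, LaurentPolynomial.T_pow,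
        mul_one, Int.toNat_of_nonneg (not_lt.1 hl)]
  · rw [Polynomial.finsetSum_coeff]
    refine Finset.sum_eq_zero fun l _ => ?_
    by_cases hl : r l ≤ 0
    · rw [hbad w (fun j => r j ≤ 0) (fun a b hb hab => hab.le.trans hb)
        (hvs fun j => hcw j ▸ hs j) l hl, zero_smul, Polynomial.coeff_zero]
    · simp [Polynomial.coeff_X_pow, show (0 : ℕ) ≠ (r l).toNat by omega]
  · obtain ⟨y, rfl⟩ := hπ x
    refine hr y hx (funext fun b => ?_)
    have h1 : mat lR = 1 := by
      funext a c
      show lR (GLn.X a c) = _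
      rw [← hlam, htriv, CoalgHomClass.counit_comp_apply, GLn.counit_X, apply_ite (algebraMap k k[T;T⁻¹]), map_one,
        map_zero, Matrix.one_apply]
    have hP1 : mat (ι.comp (ptInv P)) * mat (ι.comp P) = 1 := by
      rw [mat_comp, mat_comp, ← Matrix.map_mul, mul_eq_one_comm.1 hcancel, Matrix.map_one _ (map_zero _) (map_one _)]
    have h2 : D = 1 := by
      have h3 := congrArg (fun X => mat (ι.comp (ptInv P)) * X * mat (ι.comp P)) (hlR.symm.trans h1)
      simp only [mul_one, hP1, ← mul_assoc] at h3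
      simpa [mul_assoc, hP1] using h3
    have h4 := congrFun (congrFun h2 b) b
    simp only [D, Matrix.diagonal_apply_eq, Matrix.one_apply_eq, Tu] at h4
    by_contra hb
    have h5 := congrArg (fun q : k[T;T⁻¹] => q.coeff (r b)) h4
    simp only [LaurentPolynomial.T, AddMonoidAlgebra.one_def, AddMonoidAlgebra.coeff_single, Finsupp.single_eq_same] at h5
    rw [Finsupp.single_apply, if_neg (fun h => hb h.symm)] at h5
    exact one_ne_zero h5

end Groth.Agent.HM8
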