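import Groth.Agent.HM8.Core
import Groth.Agent.S16480
import Groth.Agent.HopfLib.LinearAction

/-!
# Embedding a linear action into the standard representation of `GL_N`
-/

set_option autoImplicit false
set_option backward.isDefEq.respectTransparency false
set_option backward.isDefEq.respectTransparency.types false

universe u

noncomputable section

open CoordGrp TensorProduct HopfRep Groth.Agent.HopfLib
open CoalgebraStruct (comul counit)

namespace Groth.Agent.HM8

variable {k : Type u} [Field k] {A : Type u} [CommRing A] [HopfAlgebra k A]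

/-- The matrix coefficients on a finite subcomodule of the coordinate ring. -/
theorem exists_rowCorep (W : Submodule k A) [Module.Finite k W] (hW : IsSubcomod (k := k) (A := A) W) :
    ∃ (n : ℕ) (a : Matrix (Fin n) (Fin n) A) (w : Fin n → k),
      (∀ i j, comul (R := k) (a i j) = ∑ l, a i l ⊗ₜ[k] a l j) ∧
      (∀ i j, counit (R := k) (a i j) = if i = j then 1 else 0) ∧
      Submodule.span k (Set.range fun j => ∑ i, w i • a i j) = W := by
  classical
  let β := Module.finBasis k W
  obtain ⟨P, hP⟩ := W.subtype.exists_leftInverse_of_injective W.ker_subtype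
  let c : Fin (Module.finrank k W) → A →ₗ[k] k := fun s => β.coord s ∘ₗ P
  have hPw : ∀ w : W, P (w : A) = w := fun w => LinearMap.congr_fun hP w
  have hcβ : ∀ s t, c s (β t : A) = if s = t then 1 else 0 := fun s t => by
    simp only [c, LinearMap.comp_apply, hPw, Module.Basis.coord_apply, Module.Basis.repr_self,
      Finsupp.single_apply, eq_comm]
  let a : Matrix (Fin (Module.finrank k W)) (Fin (Module.finrank k W)) A := fun s t => cf (A := A) (c s) (β t : A)
  have hexp : ∀ t, comul (R := k) (β t : A) = ∑ s, (β s : A) ⊗ₜ[k] a s t := by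
    intro t
    have key : ∀ y : W ⊗[k] A, W.subtype.rTensor A y =
        ∑ s, (β s : A) ⊗ₜ[k] sliceL (c s) (W.subtype.rTensor A y) := by
      intro y
      induction y using TensorProduct.induction_on with
      | zero => simp
      | add p q hp hq => simp only [map_add, TensorProduct.tmul_add, Finset.sum_add_distrib, ← hp, ← hq]
      | tmul w q =>
        conv_lhs => rw [LinearMap.rTensor_tmul, ← β.sum_repr w, map_sum, TensorProduct.sum_tmul]
        refine Finset.sum_congr rfl fun s _ => ?_
        rw [LinearMap.rTensor_tmul, sliceL_tmul, map_smul, TensorProduct.smul_tmul]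
        simp [c, hPw]
    obtain ⟨y, hy⟩ := hW (β t : A) (β t).2
    have := key y
    rw [hy] at this
    exact this
  have hε : ∀ s t, counit (R := k) (a s t) = if s = t then 1 else 0 := fun s t => by
    rw [show a s t = cf (A := A) (c s) (β t : A) from rfl, counit_cf, hcβ]
  refine ⟨_, a, fun s => counit (R := k) (β s : A), fun s t => ?_, hε, ?_⟩
  · have h := IsComodHom.coact_apply (isComodHom_cf (A := A) (c s)) (β t : A)
    change comul (R := k) (a s t) = (cf (A := A) (c s)).rTensor A (comul (R := k) (β t : A)) at h
    rw [h, hexp, map_sum]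
    exact Finset.sum_congr rfl fun l _ => rfl
  · have hrow : (fun j => ∑ i, counit (R := k) (β i : A) • a i j) = fun j => (β j : A) := funext fun j => by
      have h := congrArg (TensorProduct.lid k A) (Coalgebra.rTensor_counit_comul (R := k) (β j : A))
      rw [hexp, map_sum, map_sum] at h
      simpa using h
    rw [hrow, show (fun j => (β j : A)) = W.subtype ∘ β from rfl, Set.range_comp, ← Submodule.map_span, β.span_eq,
      Submodule.map_subtype_top]

variable [Algebra.FiniteType k A]

/-- A closed embedding into a general linear group containing a given linear action. -/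
theorem exists_embed (W : Submodule k A) [Module.Finite k W] (hW : IsSubcomod (k := k) (A := A) W) :
    ∃ (N : ℕ) (π : GLn N k →ₐc[k] A) (w : Fin N → k), Function.Surjective π ∧
      Submodule.span k (Set.range (cw π w)) = W := by
  classical
  obtain ⟨n, a, w₁, hΔa, hεa, hspan⟩ := exists_rowCorep W hW
  obtain ⟨s, hs⟩ := (‹Algebra.FiniteType k A› : Algebra.FiniteType k A).out
  obtain ⟨d, b, hΔb, hεb, hsb⟩ := exists_corep_span (k := k) (s : Set A) s.finite_toSet
  let e := (finSumFinEquiv : Fin n ⊕ Fin d ≃ Fin (n + d))
  let M : Matrix (Fin (n + d)) (Fin (n + d)) A := (Matrix.fromBlocks a 0 0 b).submatrix e.symm e.symm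
  have hΔ : ∀ i j, comul (R := k) (M i j) = ∑ l, M i l ⊗ₜ[k] M l j := fun i j => by
    rw [← e.sum_comp, Fintype.sum_sum_type]
    obtain ⟨i, rfl⟩ := e.surjective i
    obtain ⟨j, rfl⟩ := e.surjective j
    rcases i with i | i <;> rcases j with j | j <;> simp [M, hΔa, hΔb]
  have hε : ∀ i j, counit (R := k) (M i j) = if i = j then 1 else 0 := fun i j => by
    obtain ⟨i, rfl⟩ := e.surjective i
    obtain ⟨j, rfl⟩ := e.surjective j
    rcases i with i | i <;> rcases j with j | j <;> simp [M, hεa, hεb, e.injective.eq_iff]
  let f : GLn (n + d) k →ₐ[k] A := ptU M (isUnit_det_corep hΔ hε)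
  have hu : (Bialgebra.counitAlgHom k A).comp f = Bialgebra.counitAlgHom k (GLn (n + d) k) :=
    pt_ext (by funext i j; simp [mat, f, ptU, hε, GLn.counit_X])
  have hm : (Algebra.TensorProduct.map f f).comp (Bialgebra.comulAlgHom k (GLn (n + d) k)) =
      (Bialgebra.comulAlgHom k A).comp f :=
    pt_ext (by funext i j; simp [mat, f, ptU, hΔ, GLn.comul_X])
  have hfX : ∀ i j, f (GLn.X i j) = M i j := fun i j => congrFun (congrFun (mat_ptU M _) i) j
  refine ⟨n + d, BialgHom.ofAlgHom f hu hm, fun l => Sum.elim w₁ (fun _ => 0) (e.symm l), fun x => ?_, ?_⟩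
  · have hle : Algebra.adjoin k (s : Set A) ≤ f.range := Algebra.adjoin_le fun y hy =>
      (Submodule.span_le.2 (by
        rintro _ ⟨p, rfl⟩
        exact ⟨GLn.X (e (Sum.inr p.1)) (e (Sum.inr p.2)), by
          show f _ = _
          rw [hfX]; simp [M]⟩) :
        Submodule.span k (Set.range fun p : Fin d × Fin d => b p.1 p.2) ≤ Subalgebra.toSubmodule f.range) (hsb hy)
    rw [hs] at hle
    exact hle Algebra.mem_top
  · have hc : ∀ j, cw (BialgHom.ofAlgHom f hu hm) (fun l => Sum.elim w₁ (fun _ => 0) (e.symm l)) (e j) =
        Sum.elim (fun j => ∑ i, w₁ i • a i j) (fun _ => 0) j := fun j => by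
      show ∑ l, _ • f (GLn.X l (e j)) = _
      rw [← e.sum_comp, Fintype.sum_sum_type]
      rcases j with j | j <;> simp [hfX, M]
    refine le_antisymm (Submodule.span_le.2 ?_) ?_
    · rintro _ ⟨l, rfl⟩
      obtain ⟨j, rfl⟩ := e.surjective l
      rw [hc]
      rcases j with j | j
      · rw [← hspan]; exact Submodule.subset_span ⟨j, rfl⟩
      · exact zero_mem W
    · rw [← hspan, Submodule.span_le]
      rintro _ ⟨j, rfl⟩
      exact Submodule.subset_span ⟨e (Sum.inl j), (hc _).trans rfl⟩

end Groth.Agent.HM8
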