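import Groth.Agent.HM8.Points
import Groth.Agent.HopfLib.GITStable
import Groth.Agent.HopfLib.Cartier
import Groth.Agent.HopfLib.FaithfullyFlat
import Groth.Agent.InvQ8.SemiInv
import Groth.Agent.HopfLib.FiniteGen
import Mathlib.LinearAlgebra.LinearIndependent.Lemmas
import Mathlib.RingTheory.HopfAlgebra.Basic

/-!
# A frame of invariant weight functions cutting out a linearly reductive subgroup of `GL_N`
-/

set_option autoImplicit false
set_option backward.isDefEq.respectTransparency false
set_option backward.isDefEq.respectTransparency.types false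

universe u v

noncomputable section

open CoordGrp TensorProduct HopfRep
open CoalgebraStruct (comul counit)

namespace Groth.Agent.HM8

variable {k : Type u} [Field k] {N : ℕ} {A : Type u} [CommRing A] [HopfAlgebra k A]

/-- Functions cutting out the subgroup of `π`, stable under right translations, of pure weight. -/
structure Frame (π : GLn N k →ₐc[k] A) where
  r : ℕ
  f : Fin r → GLn N k
  w : Fin r → Fin N → ℤ
  c : Fin r → Fin r → GLn N k
  weight : ∀ i, HasWeight (f i) (w i)
  comul_f : ∀ i, comul (R := k) (f i) = ∑ l, f l ⊗ₜ[k] c i l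
  indep : LinearIndependent k f
  const : ∀ i, π (f i) = algebraMap k A (counit (R := k) (f i))
  sep : ∀ φ : GLn N k →ₐ[k] k, (∀ i, φ (f i) = counit (R := k) (f i)) → ∀ a, π a = 0 → φ a = 0
  lift : ∀ Y : MvPolynomial (Fin r) k →ₐ[k] k, (∀ G, MvPolynomial.aeval f G = 0 → Y G = 0) →
    ∃ H : GLn N k →ₐ[k] k, ∀ i, H (f i) = Y (MvPolynomial.X i)

/-- Translation of a function on the left. -/
def lTrans (φ : GLn N k →ₐ[k] k) : GLn N k →ₐ[k] GLn N k :=
  (Algebra.TensorProduct.lid k _).toAlgHom.comp
    ((Algebra.TensorProduct.map φ (AlgHom.id k _)).comp (Bialgebra.comulAlgHom k (GLn N k)))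

theorem apply_lTrans (φ θ : GLn N k →ₐ[k] k) (f : GLn N k) : θ (lTrans φ f) = conv φ θ f := by
  simp only [lTrans, conv, AlgHom.comp_apply, Bialgebra.comulAlgHom_apply]
  generalize comul (R := k) f = t
  induction t using TensorProduct.induction_on with
  | zero => simp
  | add p q hp hq => simp only [map_add, hp, hq]
  | tmul a b => simp

/-- Translation of a function on the right. -/
def rTrans (θ : GLn N k →ₐ[k] k) : GLn N k →ₐ[k] GLn N k :=
  (Algebra.TensorProduct.rid k k _).toAlgHom.comp
    ((Algebra.TensorProduct.map (AlgHom.id k _) θ).comp (Bialgebra.comulAlgHom k (GLn N k)))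

theorem apply_rTrans {B : Type v} [CommRing B] [Algebra k B] (φ : GLn N k →ₐ[k] B) (θ : GLn N k →ₐ[k] k)
    (f : GLn N k) : φ (rTrans θ f) = conv φ ((Algebra.ofId k B).comp θ) f := by
  simp only [rTrans, conv, AlgHom.comp_apply, Bialgebra.comulAlgHom_apply]
  generalize comul (R := k) f = t
  induction t using TensorProduct.induction_on with
  | zero => simp
  | add p q hp hq => simp only [map_add, hp, hq]
  | tmul a b => simp [Algebra.smul_def, mul_comm, Algebra.ofId_apply]

theorem mat_antipode (φ : GLn N k →ₐ[k] k) :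
    mat φ * mat (φ.comp (HopfAlgebra.antipodeAlgHom k (GLn N k))) = 1 := by
  funext i j
  have h := congrArg φ (HopfAlgebra.mul_antipode_lTensor_comul_apply (R := k) (GLn.X i j : GLn N k))
  rw [GLn.comul_X, map_sum, map_sum] at h
  rw [GLn.counit_X, AlgHom.commutes, map_sum] at h
  simp only [LinearMap.lTensor_tmul, LinearMap.mul'_apply, map_mul] at h
  rw [Matrix.mul_apply]
  exact h.trans (by simp [Matrix.one_apply])

/-- The inverse point. -/
def ptInv (φ : GLn N k →ₐ[k] k) : GLn N k →ₐ[k] k := φ.comp (HopfAlgebra.antipodeAlgHom k (GLn N k))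

theorem mat_ptInv (φ : GLn N k →ₐ[k] k) : mat φ * mat (ptInv φ) = 1 := mat_antipode φ

theorem rid_rTrans (θ : GLn N k →ₐ[k] k) {f : GLn N k} {ι : Type*} [Fintype ι] {g x : ι → GLn N k}
    (h : comul (R := k) f = ∑ l, g l ⊗ₜ[k] x l) : rTrans θ f = ∑ l, θ (x l) • g l := by
  simp [rTrans, h]

section Expansion

variable [IsAlgClosed k]

theorem exists_expansion {ι : Type u} [Fintype ι] (e : ι → GLn N k) (P : GLn N k →ₗ[k] (ι → k))
    (hP : ∀ y ∈ Submodule.span k (Set.range e), ∑ l, P y l • e l = y)
    {f : GLn N k} (hf : ∀ θ : GLn N k →ₐ[k] k, rTrans θ f ∈ Submodule.span k (Set.range e)) :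
    ∃ x : ι → GLn N k, comul (R := k) f = ∑ l, e l ⊗ₜ[k] x l := by
  classical
  let x : ι → GLn N k := fun l =>
    TensorProduct.lid k _ (TensorProduct.map (LinearMap.proj l ∘ₗ P) LinearMap.id (comul (R := k) f))
  refine ⟨x, sub_eq_zero.1 (InvQ8.SemiInv.tensor_eq_zero_of_points _ fun φ θ => ?_)⟩
  have hx : ∀ l, θ (x l) = P (rTrans θ f) l := fun l => by
    simp only [x, rTrans, AlgHom.comp_apply, Bialgebra.comulAlgHom_apply]
    generalize comul (R := k) f = t
    induction t using TensorProduct.induction_on with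
    | zero => simp
    | add p q hp hq => simp only [map_add, hp, hq, Pi.add_apply]
    | tmul a b => simp [mul_comm]
  have h1 : θ (Algebra.TensorProduct.lid k _ (Algebra.TensorProduct.map φ (AlgHom.id k _) (comul (R := k) f))) =
      φ (rTrans θ f) := by
    simp only [rTrans, AlgHom.comp_apply, Bialgebra.comulAlgHom_apply]
    generalize comul (R := k) f = t
    induction t using TensorProduct.induction_on with
    | zero => simp
    | add p q hp hq => simp only [map_add, hp, hq]
    | tmul a b => simp [mul_comm]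
  rw [map_sub, map_sub, map_sub, h1, sub_eq_zero, map_sum, map_sum, map_sum]
  conv_lhs => rw [← hP _ (hf θ)]
  rw [map_sum]
  refine Finset.sum_congr rfl fun l _ => ?_
  simp [hx, mul_comm]

theorem exists_expansion_span {n : ℕ} (e : Fin n → GLn N k) (he : LinearIndependent k e)
    {f : GLn N k} (hf : ∀ θ : GLn N k →ₐ[k] k, rTrans θ f ∈ Submodule.span k (Set.range e)) :
    ∃ x : Fin n → GLn N k, comul (R := k) f = ∑ l, e l ⊗ₜ[k] x l := by
  let b := Module.Basis.span he
  obtain ⟨Q, hQ⟩ := (Submodule.span k (Set.range e)).subtype.exists_leftInverse_of_injective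
    (Submodule.ker_subtype _)
  let P : GLn N k →ₗ[k] (Fin n → k) := b.equivFun.toLinearMap ∘ₗ Q
  obtain ⟨x, hx⟩ := exists_expansion (fun l : ULift.{u} (Fin n) => e l.down)
    (LinearMap.pi fun l : ULift.{u} (Fin n) => LinearMap.proj l.down ∘ₗ P)
    (fun y hy => by
      rw [show Set.range (fun l : ULift.{u} (Fin n) => e l.down) = Set.range e from
        ULift.down_surjective.range_comp e] at hy
      rw [← Equiv.ulift.symm.sum_comp]
      simp only [LinearMap.pi_apply, LinearMap.comp_apply, LinearMap.proj_apply]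
      have h1 : Q y = ⟨y, hy⟩ := LinearMap.congr_fun hQ ⟨y, hy⟩
      have h2 := congrArg Subtype.val (b.sum_equivFun ⟨y, hy⟩)
      simp only [Submodule.coe_sum, Submodule.coe_smul] at h2
      simpa [P, h1, b, Module.Basis.span_apply] using h2)
    (f := f) (fun θ => by
      rw [show Set.range (fun l : ULift.{u} (Fin n) => e l.down) = Set.range e from
        ULift.down_surjective.range_comp e]
      exact hf θ)
  exact ⟨fun l => x ⟨l⟩, hx.trans (Equiv.ulift.symm.sum_comp fun l => e l.down ⊗ₜ[k] x l).symm⟩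

/-- Left invariant functions under the subgroup. -/
def leftInv (π : GLn N k →ₐc[k] A) : Submodule k (GLn N k) where
  carrier := {f | ∀ (g : A →ₐ[k] k) (θ : GLn N k →ₐ[k] k), conv (g.comp (π : GLn N k →ₐ[k] A)) θ f = θ f}
  add_mem' hf hh g θ := by rw [map_add, hf g θ, hh g θ, map_add]
  zero_mem' g θ := by rw [map_zero, map_zero]
  smul_mem' c f hf g θ := by rw [map_smul, hf g θ, map_smul]

omit [IsAlgClosed k] in
theorem conv_comp (π : GLn N k →ₐc[k] A) (g h : A →ₐ[k] k) :
    ∃ gh : A →ₐ[k] k, conv (g.comp (π : GLn N k →ₐ[k] A)) (h.comp (π : GLn N k →ₐ[k] A)) =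
      gh.comp (π : GLn N k →ₐ[k] A) := by
  refine ⟨(Algebra.TensorProduct.lmul' k).comp
    ((Algebra.TensorProduct.map g h).comp (Bialgebra.comulAlgHom k A)), AlgHom.ext fun a => ?_⟩
  have h1 := LinearMap.congr_fun π.map_comp_comul a
  simp only [LinearMap.comp_apply] at h1
  simp only [conv, AlgHom.comp_apply, Bialgebra.comulAlgHom_apply]
  change _ = Algebra.TensorProduct.lmul' k (Algebra.TensorProduct.map g h (comul (R := k) (π.toLinearMap a)))
  rw [← h1]
  generalize comul (R := k) a = t
  induction t using TensorProduct.induction_on with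
  | zero => simp
  | add p q hp hq => simp only [map_add, hp, hq]
  | tmul p q => simp; rfl

variable [CharZero k] [Algebra.FiniteType k A]

/-- The right translation comodule along the subgroup. -/
@[reducible] def rComod (π : GLn N k →ₐc[k] A) : Comod k A (GLn N k) :=
  GLin.comodAlong π (inferInstance : Comod k (GLn N k) (GLn N k))

omit [IsAlgClosed k] [CharZero k] [Algebra.FiniteType k A] in
theorem rCoactAlg (π : GLn N k →ₐc[k] A) : @GLin.IsCoactAlg k _ A _ _ (GLn N k) _ _ (rComod π) :=
  GLin.isCoactAlg_comodAlong π (inferInstance : Comod k (GLn N k) (GLn N k)) inferInstance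

omit [IsAlgClosed k] [CharZero k] [Algebra.FiniteType k A] in
theorem orbitHom_eq (π : GLn N k →ₐc[k] A) :
    letI := rComod π
    haveI := rCoactAlg π
    ∀ (x : GLn N k →ₐ[k] k) (f : GLn N k), GLin.orbitHom k A x f = π (lTrans x f) := by
  intro x f
  simp only [GLin.orbitHom, lTrans, AlgHom.comp_apply, GLin.coactAlgHom_apply, Bialgebra.comulAlgHom_apply]
  change Algebra.TensorProduct.lid k A (Algebra.TensorProduct.map x (AlgHom.id k A)
    (TensorProduct.map LinearMap.id π.toLinearMap (comul (R := k) f))) = _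
  generalize comul (R := k) f = t
  induction t using TensorProduct.induction_on with
  | zero => simp
  | add p q hp hq => simp only [map_add, hp, hq]
  | tmul a b => simp; rfl

theorem antipode_mem_leftInv (π : GLn N k →ₐc[k] A) :
    letI := rComod π
    haveI := rCoactAlg π
    ∀ p ∈ GLin.invariants k A (GLn N k), HopfAlgebra.antipodeAlgHom k (GLn N k) p ∈ leftInv π := by
  letI := rComod π
  haveI := rCoactAlg π
  have horb := orbitHom_eq π
  have hinv : ∀ θ : GLn N k →ₐ[k] k, mat (ptInv θ) * mat θ = 1 := fun θ =>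
    mul_eq_one_comm.1 (mat_ptInv θ)
  intro p hp g θ
  let γ := g.comp (π : GLn N k →ₐ[k] A)
  change ptInv (conv γ θ) p = ptInv θ p
  have hgi : ptInv γ = (g.comp (HopfAlgebra.antipodeAlgHom k A)).comp (π : GLn N k →ₐ[k] A) := by
    refine AlgHom.ext fun a => ?_
    exact congrArg g (HopfLib.map_antipode' π a)
  have hm : ptInv (conv γ θ) = conv (ptInv θ) (ptInv γ) := by
    refine pt_ext ?_
    rw [mat_conv]
    have h1 := hinv (conv γ θ)
    rw [mat_conv] at h1
    calc mat (ptInv (conv γ θ)) = mat (ptInv (conv γ θ)) * (mat γ * (mat θ * mat (ptInv θ)) * mat (ptInv γ)) := by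
          rw [mat_ptInv, mul_one, mat_ptInv, mul_one]
      _ = _ := by rw [← mul_assoc, ← mul_assoc, ← mul_assoc, mul_assoc _ (mat γ) (mat θ), h1, one_mul]
  rw [hm, hgi, ← apply_lTrans, AlgHom.comp_apply]
  change g (HopfAlgebra.antipodeAlgHom k A (π (lTrans (ptInv θ) p))) = _
  rw [← horb, HopfLib.orbitHom_of_mem_invariants _ hp, AlgHom.commutes, AlgHom.commutes]
  rfl

theorem antipode_mem_invariants [IsReduced A] (π : GLn N k →ₐc[k] A) {f : GLn N k} (hf : f ∈ leftInv π) :
    letI := rComod π
    haveI := rCoactAlg π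
    HopfAlgebra.antipodeAlgHom k (GLn N k) f ∈ GLin.invariants k A (GLn N k) := by
  letI := rComod π
  haveI := rCoactAlg π
  rw [GLin.mem_invariants_iff]
  refine sub_eq_zero.1 (InvQ8.SemiInv.tensor_eq_zero_of_points _ fun x g => ?_)
  rw [map_sub, map_sub, map_sub, sub_eq_zero]
  have h1 : g (Algebra.TensorProduct.lid k A (Algebra.TensorProduct.map x (AlgHom.id k A)
      (Comod.coact (k := k) (A := A) (HopfAlgebra.antipodeAlgHom k (GLn N k) f)))) =
      conv x (g.comp (π : GLn N k →ₐ[k] A)) (HopfAlgebra.antipodeAlgHom k (GLn N k) f) := by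
    have h2 := orbitHom_eq π x (HopfAlgebra.antipodeAlgHom k (GLn N k) f)
    simp only [GLin.orbitHom, AlgHom.comp_apply, GLin.coactAlgHom_apply] at h2
    refine (congrArg g h2).trans ?_
    exact apply_lTrans x (g.comp (π : GLn N k →ₐ[k] A)) _
  rw [h1]
  let γ := g.comp (π : GLn N k →ₐ[k] A)
  have hγ : ptInv γ = (g.comp (HopfAlgebra.antipodeAlgHom k A)).comp (π : GLn N k →ₐ[k] A) :=
    AlgHom.ext fun a => congrArg g (HopfLib.map_antipode' π a)
  have hc : ptInv (conv x γ) = conv (ptInv γ) (ptInv x) := by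
    refine pt_ext ?_
    rw [mat_conv]
    have h3 := mul_eq_one_comm.1 (mat_ptInv (conv x γ))
    rw [mat_conv] at h3
    calc mat (ptInv (conv x γ)) = mat (ptInv (conv x γ)) * (mat x * (mat γ * mat (ptInv γ)) * mat (ptInv x)) := by
          rw [mat_ptInv, mul_one, mat_ptInv, mul_one]
      _ = _ := by rw [← mul_assoc, ← mul_assoc, ← mul_assoc, mul_assoc _ (mat x) (mat γ), h3, one_mul]
  change ptInv (conv x γ) f = _
  rw [hc, hγ, hf]
  simp [ptInv]

theorem sep_of_invariants (π : GLn N k →ₐc[k] A) (hπ : Function.Surjective π) (hG : IsLinearlyReductive k A)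
    (φ : GLn N k →ₐ[k] k) (hφ : ∀ f ∈ leftInv π, φ f = counit (R := k) f) :
    ∀ a, π a = 0 → φ a = 0 := by
  classical
  letI := GLin.comodAlong π (inferInstance : Comod k (GLn N k) (GLn N k))
  haveI : GLin.IsCoactAlg k A (GLn N k) :=
    GLin.isCoactAlg_comodAlong π (inferInstance : Comod k (GLn N k) (GLn N k)) inferInstance
  have horb := orbitHom_eq π
  let ε := Bialgebra.counitAlgHom k (GLn N k)
  have hε : mat ε = 1 := by funext i j; simp [mat, ε, GLn.counit_X, Matrix.one_apply]
  have hinv : ∀ θ : GLn N k →ₐ[k] k, mat (ptInv θ) * mat θ = 1 := fun θ =>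
    mul_eq_one_comm.1 (mat_ptInv θ)
  have hq := antipode_mem_leftInv π
  have hcomp : (ptInv φ).comp (GLin.invariants k A (GLn N k)).val = ε.comp (GLin.invariants k A (GLn N k)).val := by
    refine AlgHom.ext fun ⟨p, hp⟩ => ?_
    refine (hφ _ (hq p hp)).trans ?_
    show counit (R := k) (HopfAlgebra.antipode k p) = counit (R := k) p
    exact HopfAlgebra.counit_antipode p
  obtain ⟨z, hz1, hz2⟩ := (HopfLib.comp_invariants_eq_iff hG _ _).1 hcomp
  have hker : ∀ y : GLn N k →ₐ[k] k, (∀ a, π a = 0 → y a = 0) → ∃ g : A →ₐ[k] k, y = g.comp (π : GLn N k →ₐ[k] A) := by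
    intro y hy
    exact ⟨AlgHom.liftOfSurjective (π : GLn N k →ₐ[k] A) hπ y fun a ha => RingHom.mem_ker.2 (hy a (RingHom.mem_ker.1 ha)),
      (AlgHom.liftOfSurjective_comp _ _ _ _).symm⟩
  obtain ⟨g2, hg2⟩ := hker z fun a ha => hz2 (RingHom.mem_ker.2 (by
    rw [horb, show lTrans ε a = a from ?_, ha]
    simp only [lTrans, AlgHom.comp_apply, Bialgebra.comulAlgHom_apply]
    have h := congrArg (TensorProduct.lid k (GLn N k)) (Coalgebra.rTensor_counit_comul (R := k) a)
    simp only [TensorProduct.lid_tmul, one_smul] at h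
    refine Eq.trans ?_ h
    generalize comul (R := k) a = t
    induction t using TensorProduct.induction_on with
    | zero => simp
    | add p q hp hq => simp only [map_add, hp, hq]
    | tmul p q => simp [ε]))
  obtain ⟨g1, hg1⟩ := hker (conv φ z) fun a ha => by
    rw [← apply_lTrans]
    refine hz1 (RingHom.mem_ker.2 ?_)
    rw [horb]
    refine (congrArg π (?_ : _ = a)).trans ha
    refine sub_eq_zero.1 (eq_zero_of_points fun θ => ?_)
    rw [map_sub, apply_lTrans, apply_lTrans, sub_eq_zero]
    have he : conv φ (conv (ptInv φ) θ) = θ :=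
      pt_ext (by rw [mat_conv, mat_conv, ← mul_assoc, mat_ptInv, one_mul])
    rw [he]
  obtain ⟨g, hg⟩ := conv_comp π g1 (g2.comp (HopfAlgebra.antipodeAlgHom k A))
  have hφeq : φ = g.comp (π : GLn N k →ₐ[k] A) := by
    have hgz : ptInv z = (g2.comp (HopfAlgebra.antipodeAlgHom k A)).comp (π : GLn N k →ₐ[k] A) := by
      refine AlgHom.ext fun a => ?_
      rw [hg2]
      exact congrArg g2 (HopfLib.map_antipode' π a)
    rw [← hg, ← hgz, ← hg1]
    exact pt_ext (by rw [mat_conv, mat_conv, mul_assoc, mat_ptInv, mul_one])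
  intro a ha
  rw [hφeq]
  exact (congrArg g ha).trans (map_zero g)

/-- Existence of a frame. -/
theorem exists_frame (π : GLn N k →ₐc[k] A) (hπ : Function.Surjective π) (hG : IsLinearlyReductive k A) :
    Nonempty (Frame π) := by
  classical
  have : IsReduced A := HopfLib.isReduced_of_charZero (k := k)
  have : IsNoetherianRing (GLn N k) := Algebra.FiniteType.isNoetherianRing k _
  let ε := Bialgebra.counitAlgHom k (GLn N k)
  have hε : mat ε = 1 := by funext i j; simp [mat, ε, GLn.counit_X, Matrix.one_apply]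
  obtain ⟨t, htL, ht⟩ := Submodule.fg_span_iff_fg_span_finset_subset
    ((fun f => f - algebraMap k (GLn N k) (counit (R := k) f)) '' (leftInv π : Set (GLn N k))) |>.1
    (IsNoetherian.noetherian (Submodule.span (GLn N k) _))
  obtain ⟨s, hsL, hs⟩ := Finset.subset_set_image_iff.1 htL
  letI := rComod π
  haveI := rCoactAlg π
  obtain ⟨s2, hs2, hgen⟩ := HopfLib.exists_finset_invariants_adjoin hG (GLn N k)
  obtain ⟨W, hW, hsW, hWs⟩ := HopfLib.exists_finite_subcomod (k := k) (A := GLn N k) (V := GLn N k)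
    ((↑s : Set (GLn N k)) ∪ HopfAlgebra.antipodeAlgHom k (GLn N k) '' (↑s2 : Set (GLn N k)))
    (s.finite_toSet.union (s2.finite_toSet.image _))
  let W' := W ⊓ leftInv π
  have hstab : ∀ f ∈ W', ∀ θ, rTrans θ f ∈ W' := by
    rintro f ⟨hfW, hfL⟩ θ
    refine ⟨?_, fun g η => ?_⟩
    · obtain ⟨y, hy⟩ := hWs f hfW
      change rTrans θ f ∈ W
      simp only [rTrans, AlgHom.comp_apply, Bialgebra.comulAlgHom_apply]
      rw [show comul (R := k) f = W.subtype.rTensor (GLn N k) y from hy.symm]
      clear hy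
      induction y using TensorProduct.induction_on with
      | zero => simp
      | add p q hp hq => simp only [map_add]; exact add_mem hp hq
      | tmul a b => simpa using Submodule.smul_mem W (θ b) a.2
    · rw [apply_rTrans, apply_rTrans]
      have hh : conv (conv (g.comp (π : GLn N k →ₐ[k] A)) η) ((Algebra.ofId k k).comp θ) =
          conv (g.comp (π : GLn N k →ₐ[k] A)) (conv η ((Algebra.ofId k k).comp θ)) :=
        pt_ext (by simp only [mat_conv, mul_assoc])
      rw [hh]
      exact hfL g _
  have : Module.Finite k W' := Submodule.finiteDimensional_of_le (S₂ := W) inf_le_left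
  let b := Module.finBasis k W'
  have hbspan : Submodule.span k (Set.range fun l => (b l : GLn N k)) = W' := by
    rw [show (fun l => (b l : GLn N k)) = W'.subtype ∘ b from rfl, Set.range_comp, ← Submodule.map_span, b.span_eq,
      Submodule.map_subtype_top]
  have hbli : LinearIndependent k (fun l => (b l : GLn N k)) :=
    b.linearIndependent.map' W'.subtype (Submodule.ker_subtype _)
  have hcomp : ∀ f ∈ W', ∀ χ, (τ f).coeff χ ∈ W' := by
    intro f hf χ
    obtain ⟨x, hx⟩ := exists_expansion_span _ hbli (f := f) fun θ => hbspan.symm ▸ hstab f hf θ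
    let D : Matrix (Fin N) (Fin N) (AddMonoidAlgebra k (Fin N → ℤ)) :=
      Matrix.diagonal fun b => AddMonoidAlgebra.single (Pi.single b (1 : ℤ)) (1 : k)
    have hD : IsUnit D.det := by
      rw [Matrix.det_diagonal]
      refine IsUnit.prod_iff.2 fun b _ => IsUnit.of_mul_eq_one
        (AddMonoidAlgebra.single (-Pi.single b (1 : ℤ)) (1 : k)) ?_
      rw [AddMonoidAlgebra.single_mul_single, add_neg_cancel, one_mul]
      rfl
    let j : AddMonoidAlgebra k (Fin N → ℤ) →ₐ[k] AddMonoidAlgebra (GLn N k) (Fin N → ℤ) :=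
      AddMonoidAlgebra.mapAlgHom _ (Algebra.ofId k (GLn N k))
    let ι : GLn N k →ₐ[k] AddMonoidAlgebra (GLn N k) (Fin N → ℤ) := AddMonoidAlgebra.singleZeroAlgHom
    have hmul : mat ι * mat (j.comp (ptU D hD)) = mat (τ (k := k) (N := N)) := by
      rw [mat_comp, mat_ptU]
      funext a b
      rw [show mat (τ (k := k) (N := N)) a b = _ from τ_X a b]
      simp [D, Matrix.diagonal_map, Matrix.mul_diagonal, mat, ι, j, AddMonoidAlgebra.single_mul_single]
    rw [apply_eq_of_mul hmul hx, AddMonoidAlgebra.coeff_sum, Finsupp.finsetSum_apply]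
    refine sum_mem fun l _ => ?_
    have h1 : (ι (b l : GLn N k) * j (ptU D hD (x l))).coeff χ = ((ptU D hD (x l)).coeff χ) • (b l : GLn N k) := by
      rw [show ι (b l : GLn N k) = AddMonoidAlgebra.single 0 (b l : GLn N k) from rfl,
        AddMonoidAlgebra.coeff_single_zero_mul]
      simp [j, Algebra.ofId_apply, Algebra.smul_def, mul_comm]
    rw [AlgHom.comp_apply, h1]
    exact Submodule.smul_mem _ _ (b l).2
  obtain ⟨S, hSsub, hSspan, hSli⟩ := exists_linearIndependent k {f | f ∈ W' ∧ ∃ χ, HasWeight f χ}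
  have hspanS : Submodule.span k S = W' := by
    rw [hSspan]
    refine le_antisymm (Submodule.span_le.2 fun f hf => hf.1) fun f hf => ?_
    rw [← (coeff_τ f).2]
    exact Submodule.sum_mem _ fun χ _ => Submodule.subset_span ⟨hcomp f hf χ, _, (coeff_τ f).1 χ⟩
  have hSfin : S.Finite := by
    have h1 : LinearIndependent k fun x : S => (⟨x.1, (hSsub x.2).1⟩ : W') :=
      LinearIndependent.of_comp W'.subtype hSli
    exact Set.finite_coe_iff.1 h1.finite
  have := hSfin.fintype
  let e : Fin (Fintype.card S) → GLn N k := fun i => ((Fintype.equivFin S).symm i).1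
  have hrange : Set.range e = S := by
    rw [show e = Subtype.val ∘ (Fintype.equivFin S).symm from rfl, (Fintype.equivFin S).symm.surjective.range_comp,
      Subtype.range_coe]
  have heli : LinearIndependent k e := hSli.comp _ (Fintype.equivFin S).symm.injective
  have heW : ∀ i, e i ∈ W' := fun i => (hSsub ((Fintype.equivFin S).symm i).2).1
  have hw : ∀ i, ∃ χ, HasWeight (e i) χ := fun i => (hSsub ((Fintype.equivFin S).symm i).2).2
  choose w hw using hw
  have hc : ∀ i, ∃ c : Fin _ → GLn N k, comul (R := k) (e i) = ∑ l, e l ⊗ₜ[k] c l := fun i =>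
    exists_expansion_span e heli fun θ => by
      rw [hrange, hspanS]
      exact hstab _ (heW i) θ
  choose c hc using hc
  have hconv : ∀ γ : GLn N k →ₐ[k] k, conv γ ε = γ := fun γ => pt_ext (by rw [mat_conv, hε, mul_one])
  refine ⟨⟨_, e, w, c, hw, hc, heli, fun i => ?_, fun φ hφ => ?_, fun Y hY => ?_⟩⟩
  · refine sub_eq_zero.1 ?_
    by_contra hne
    obtain ⟨g, hg⟩ := HopfLib.exists_algHom_ne_zero (k := k) (f := π (e i) - algebraMap k A (counit (R := k) (e i)))
      (fun hn => hne hn.eq_zero)
    refine hg ?_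
    rw [map_sub, AlgHom.commutes, Algebra.algebraMap_self_apply, sub_eq_zero]
    exact (AlgHom.congr_fun (hconv (g.comp (π : GLn N k →ₐ[k] A))) (e i)).symm.trans ((heW i).2 g ε)
  · refine sep_of_invariants π hπ hG φ fun f hf => ?_
    have hW' : ∀ f ∈ W', φ f = ε f := by
      intro f hf
      rw [← hspanS, ← hrange] at hf
      exact LinearMap.eqOn_span (f := φ.toLinearMap) (g := ε.toLinearMap)
        (by rintro _ ⟨i, rfl⟩; exact hφ i) hf
    have hker : Submodule.span (GLn N k)
        ((fun f => f - algebraMap k (GLn N k) (counit (R := k) f)) '' (leftInv π : Set (GLn N k))) ≤ RingHom.ker φ := by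
      rw [ht, Submodule.span_le, ← hs]
      intro y hy
      rw [Finset.mem_coe, Finset.mem_image] at hy
      obtain ⟨z, hz, rfl⟩ := hy
      simp only [SetLike.mem_coe, RingHom.mem_ker, map_sub, AlgHom.commutes, Algebra.algebraMap_self_apply, sub_eq_zero]
      exact hW' z ⟨hsW (Or.inl hz), hsL hz⟩
    simpa [RingHom.mem_ker, sub_eq_zero] using hker (Submodule.subset_span ⟨f, hf, rfl⟩)
  · let ev : MvPolynomial (Fin (Fintype.card S)) k →ₐ[k] GLn N k := MvPolynomial.aeval e
    have hran : ∀ p ∈ GLin.invariants k A (GLn N k), HopfAlgebra.antipodeAlgHom k (GLn N k) p ∈ ev.range := by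
      intro p hp
      have hle : Algebra.adjoin k (↑s2 : Set (GLn N k)) ≤ ev.range.comap (HopfAlgebra.antipodeAlgHom k (GLn N k)) := by
        refine Algebra.adjoin_le fun q hq => ?_
        have h1 : HopfAlgebra.antipodeAlgHom k (GLn N k) q ∈ W' :=
          ⟨hsW (Or.inr ⟨q, hq, rfl⟩), antipode_mem_leftInv π q (hs2 q hq)⟩
        rw [← hspanS, ← hrange] at h1
        exact (Submodule.span_le.2 (by rintro _ ⟨i, rfl⟩; exact ⟨MvPolynomial.X i, MvPolynomial.aeval_X _ _⟩) :
          Submodule.span k (Set.range e) ≤ Subalgebra.toSubmodule ev.range) h1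
      exact hle (hgen p hp)
    let Yq : (MvPolynomial (Fin (Fintype.card S)) k ⧸ RingHom.ker ev) →ₐ[k] k :=
      Ideal.Quotient.liftₐ _ Y fun a ha => hY a (RingHom.mem_ker.1 ha)
    let er := (Ideal.quotientKerEquivRange ev).symm.toAlgHom
    let y : GLin.invariants k A (GLn N k) →ₐ[k] k := (Yq.comp er).comp
      (((HopfAlgebra.antipodeAlgHom k (GLn N k)).comp (GLin.invariants k A (GLn N k)).val).codRestrict ev.range
        fun p => hran p p.2)
    obtain ⟨x, -, hx⟩ := HopfLib.exists_point_over (I := (⊥ : Ideal (GLn N k)))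
      (HopfLib.exists_totalIntegral hG (GLn N k)) (fun v hv => ⟨0, by
        rw [Submodule.restrictScalars_bot, Submodule.mem_bot] at hv
        simp [hv]⟩) y fun f hf => by
        rw [show f = 0 from Subtype.ext (by simpa using hf), map_zero]
    refine ⟨ptInv x, fun i => ?_⟩
    have hin : HopfAlgebra.antipodeAlgHom k (GLn N k) (e i) ∈ GLin.invariants k A (GLn N k) :=
      antipode_mem_invariants π (heW i).2
    refine (AlgHom.congr_fun hx ⟨_, hin⟩).trans ?_
    show Yq (er ⟨HopfAlgebra.antipodeAlgHom k (GLn N k) (HopfAlgebra.antipodeAlgHom k (GLn N k) (e i)), _⟩) = _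
    have h2 : er ⟨ev (MvPolynomial.X i), ⟨_, rfl⟩⟩ = Ideal.Quotient.mk _ (MvPolynomial.X i) :=
      (Ideal.quotientKerEquivRange ev).injective (by
        simp only [er, AlgEquiv.toAlgHom_eq_coe, AlgEquiv.coe_algHom, AlgEquiv.apply_symm_apply]
        exact Subtype.ext rfl)
    have h3 : HopfAlgebra.antipodeAlgHom k (GLn N k) (HopfAlgebra.antipodeAlgHom k (GLn N k) (e i)) =
        ev (MvPolynomial.X i) := by
      rw [MvPolynomial.aeval_X]
      exact HopfLib.antipode_antipode (k := k) (e i)
    simp only [h3, h2]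
    rfl

end Expansion

end Groth.Agent.HM8
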