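import Groth.Agent.HM8.Embed
import Groth.Agent.CommAlg4.Semistable
import Groth.Agent.HopfLib.GITLocus

/-!
# The Hilbert–Mumford criterion for linearly reductive groups
-/

set_option autoImplicit false
set_option backward.isDefEq.respectTransparency false
set_option backward.isDefEq.respectTransparency.types false

universe u

noncomputable section

open CoordGrp TensorProduct HopfRep Groth.Agent.HopfLib
open CoalgebraStruct (comul counit)
open scoped LaurentPolynomial

namespace Groth.Agent.HM8

variable {k : Type u} [Field k] [IsAlgClosed k] [CharZero k]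
  {A : Type u} [CommRing A] [HopfAlgebra k A] [Algebra.FiniteType k A]
  {ι : Type u} [Fintype ι] [HopfRep.Comod k A (MvPolynomial ι k)] [GLin.IsCoactAlg k A (MvPolynomial ι k)]

/-- The span of the coordinates of a moved vector. -/
def oSpan (A : Type u) [CommRing A] [HopfAlgebra k A] [HopfRep.Comod k A (MvPolynomial ι k)]
    [GLin.IsCoactAlg k A (MvPolynomial ι k)] (v : ι → k) : Submodule k A :=
  Submodule.span k (Set.range fun i => GLin.orbitHom k A (GLin.vecPt k ι v) (MvPolynomial.X i))

omit [IsAlgClosed k] [CharZero k] [Algebra.FiniteType k A] in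
theorem oSpan_isSubcomod (hlin : GLin.IsLinear k A ι) (v : ι → k) : IsSubcomod (k := k) (A := A) (oSpan A v) := by
  intro y hy
  induction hy using Submodule.span_induction with
  | mem z hz =>
    obtain ⟨i, rfl⟩ := hz
    obtain ⟨m, hm⟩ := hlin i
    dsimp only
    have h : Comod.coact (k := k) (A := A) (GLin.orbitHom k A (GLin.vecPt k ι v) (MvPolynomial.X i)) =
        (GLin.orbitHom k A (GLin.vecPt k ι v)).toLinearMap.rTensor A
          (Comod.coact (k := k) (A := A) (MvPolynomial.X i : MvPolynomial ι k)) :=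
      IsComodHom.coact_apply (isComodHom_orbitHom (GLin.vecPt k ι v)) (MvPolynomial.X i)
    rw [h, hm, map_sum]
    refine Submodule.sum_mem _ fun j _ => ⟨(⟨_, Submodule.subset_span ⟨j, rfl⟩⟩ : oSpan A v) ⊗ₜ[k] m j, ?_⟩
    simp
  | zero => rw [map_zero]; exact zero_mem _
  | add a b _ _ ha hb => rw [map_add]; exact add_mem ha hb
  | smul c a _ ha => rw [map_smul]; exact Submodule.smul_mem _ c ha

/-- The one-parameter subgroup of an integral valued point. -/
theorem exists_lam (hG : IsLinearlyReductive k A) (hlin : GLin.IsLinear k A ι) (v : ι → k)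
    {K : Type u} [Field K] [Algebra k K] (O : ValuationSubring K) (hk : ∀ c : k, algebraMap k K c ∈ O)
    (ψ : A →ₐ[k] K) (hint : ∀ i, ψ (GLin.orbitHom k A (GLin.vecPt k ι v) (MvPolynomial.X i)) ∈ O) :
    ∃ (lam : A →ₐc[k] k[T;T⁻¹]) (q : ι → Polynomial k),
      (∀ i, Polynomial.toLaurentAlg (q i) = GLin.lamOrbit k A lam (GLin.vecPt k ι v) (MvPolynomial.X i)) ∧
      ((∀ i, O.valuation (ψ (GLin.orbitHom k A (GLin.vecPt k ι v) (MvPolynomial.X i))) < 1) →
        ∀ i, (q i).coeff 0 = 0) ∧
      ((∃ a, ψ a ∉ O) → ¬ SGA3t2b.IsTrivialBialgHom lam) := by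
  classical
  haveI : Module.Finite k (oSpan A v) := Module.Finite.span_of_finite k (Set.finite_range _)
  obtain ⟨N, π, w, hπ, hspan⟩ := exists_embed (oSpan A v) (oSpan_isSubcomod hlin v)
  have hmem : ∀ j, cw π w j ∈ oSpan A v := fun j => hspan ▸ Submodule.subset_span ⟨j, rfl⟩
  have hO : ∀ y ∈ oSpan A v, ψ y ∈ O := fun y hy => by
    induction hy using Submodule.span_induction with
    | mem z hz => obtain ⟨i, rfl⟩ := hz; exact hint i
    | zero => rw [map_zero]; exact zero_mem O
    | add a b _ _ ha hb => rw [map_add]; exact add_mem ha hb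
    | smul c a _ ha => rw [map_smul, Algebra.smul_def]; exact mul_mem (hk c) ha
  obtain ⟨lam, hlam, htriv⟩ := exists_oneParam π hπ hG w O hk ψ fun j => hO _ (hmem j)
  choose p hp hp0 using hlam
  have hoi : ∀ i, ∃ c : Fin N → k,
      ∑ j, c j • cw π w j = GLin.orbitHom k A (GLin.vecPt k ι v) (MvPolynomial.X i) := fun i =>
    (Submodule.mem_span_range_iff_exists_fun k).1 (by rw [hspan]; exact Submodule.subset_span ⟨i, rfl⟩)
  choose c hc using hoi
  refine ⟨lam, fun i => ∑ j, c i j • p j, fun i => ?_, fun hlt i => ?_, htriv⟩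
  · show _ = lam (GLin.orbitHom k A (GLin.vecPt k ι v) (MvPolynomial.X i))
    rw [← hc, map_sum, map_sum]
    simp only [map_smul, hp]
  · rw [Polynomial.finsetSum_coeff]
    refine Finset.sum_eq_zero fun j _ => ?_
    rw [Polynomial.coeff_smul, hp0 j (fun j' => ?_), smul_zero]
    have hlt' : ∀ y ∈ oSpan A v, O.valuation (ψ y) < 1 := fun y hy => by
      induction hy using Submodule.span_induction with
      | mem z hz => obtain ⟨i, rfl⟩ := hz; exact hlt i
      | zero => simp
      | add a b _ _ ha hb => rw [map_add]; exact O.valuation.map_add_lt ha hb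
      | smul c a _ ha =>
        rw [map_smul, Algebra.smul_def, map_mul]
        exact (mul_le_of_le_one_left zero_le ((O.valuation_le_one_iff _).2 (hk c))).trans_lt ha
    exact hlt' _ (hmem j')

omit [IsAlgClosed k] [CharZero k] [Algebra.FiniteType k A] in
theorem counit_lam (lam : A →ₐc[k] k[T;T⁻¹]) (i : ι) (v : ι → k) :
    counit (R := k) (GLin.lamOrbit k A lam (GLin.vecPt k ι v) (MvPolynomial.X i)) = v i := by
  show counit (R := k) (lam (GLin.orbitHom k A (GLin.vecPt k ι v) (MvPolynomial.X i))) = v i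
  rw [CoalgHomClass.counit_comp_apply, counit_orbitHom]
  simp [GLin.vecPt]

omit [IsAlgClosed k] [CharZero k] [Algebra.FiniteType k A] in
/-- A limit of integral coordinates gives a value of the numerical function. -/
theorem exists_mu (lam : A →ₐc[k] k[T;T⁻¹]) (v : ι → k) (hv : v ≠ 0) (q : ι → Polynomial k)
    (hq : ∀ i, Polynomial.toLaurentAlg (q i) = GLin.lamOrbit k A lam (GLin.vecPt k ι v) (MvPolynomial.X i)) :
    ∃ e : ℕ, GLin.IsMu k A lam v (-(e : ℤ)) ∧ ((∀ i, (q i).coeff 0 = 0) → 0 < e) := by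
  classical
  have hne : ∃ i, q i ≠ 0 := by
    by_contra! h
    refine hv (funext fun i => ?_)
    rw [← counit_lam lam i v, ← hq, h, map_zero, map_zero]
    rfl
  have hex : ∃ e i, (q i).coeff e ≠ 0 := by
    obtain ⟨i, hi⟩ := hne
    exact ⟨(q i).natTrailingDegree, i, fun h => Polynomial.trailingCoeff_nonzero_iff_nonzero.2 hi h⟩
  let e := Nat.find hex
  obtain ⟨i0, hi0⟩ : ∃ i, (q i).coeff e ≠ 0 := Nat.find_spec hex
  have hlow : ∀ i, ∃ p : Polynomial k, q i = Polynomial.X ^ e * p := fun i =>
    Polynomial.X_pow_dvd_iff.2 fun n hn => by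
      by_contra h
      exact Nat.find_min hex hn ⟨i, h⟩
  choose p hp using hlow
  refine ⟨e, ⟨MvPolynomial.aeval p, MvPolynomial.algHom_ext fun i => ?_, fun h => hi0 ?_⟩, fun h0 => ?_⟩
  · rw [AlgHom.comp_apply, MvPolynomial.aeval_X, GLin.shiftedOrbit, MvPolynomial.aeval_X, ← hq i, hp i, map_mul,
      map_pow, Polynomial.toLaurentAlg_apply, Polynomial.toLaurentAlg_apply, Polynomial.toLaurent_X,
      LaurentPolynomial.T_pow, mul_one, ← mul_assoc, ← LaurentPolynomial.T_add, neg_add_cancel,
      LaurentPolynomial.T_zero, one_mul]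
  · have h1 := AlgHom.congr_fun h (MvPolynomial.X i0)
    rw [AlgHom.comp_apply, MvPolynomial.aeval_X, MvPolynomial.aeval_X] at h1
    rw [hp, Polynomial.coeff_X_pow_mul', if_pos le_rfl, Nat.sub_self, Polynomial.coeff_zero_eq_aeval_zero]
    exact h1
  · rcases Nat.eq_zero_or_pos e with h | h
    · exact absurd (h0 i0) (h ▸ hi0)
    · exact h

omit [IsAlgClosed k] [CharZero k] [Algebra.FiniteType k A] in
/-- A non-positive value of the numerical function gives a limit. -/
theorem exists_limit (lam : A →ₐc[k] k[T;T⁻¹]) (v : ι → k) {m : ℤ} (hmu : GLin.IsMu k A lam v m) (hm : m ≤ 0) :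
    ∃ g : MvPolynomial ι k →ₐ[k] Polynomial k,
      (Polynomial.toLaurentAlg (R := k)).comp g = GLin.lamOrbit k A lam (GLin.vecPt k ι v) ∧
      (m < 0 → ∀ i, (g (MvPolynomial.X i)).eval 0 = 0) := by
  obtain ⟨h, hh, -⟩ := hmu
  refine ⟨MvPolynomial.aeval fun i => Polynomial.X ^ (-m).toNat * h (MvPolynomial.X i),
    MvPolynomial.algHom_ext fun i => ?_, fun hm' i => ?_⟩
  · have h1 := AlgHom.congr_fun hh (MvPolynomial.X i)
    rw [AlgHom.comp_apply, GLin.shiftedOrbit, MvPolynomial.aeval_X] at h1
    rw [AlgHom.comp_apply, MvPolynomial.aeval_X, map_mul, h1, map_pow, Polynomial.toLaurentAlg_apply,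
      Polynomial.toLaurent_X, LaurentPolynomial.T_pow, mul_one, Int.toNat_of_nonneg (by omega), ← mul_assoc,
      ← LaurentPolynomial.T_add, neg_add_cancel, LaurentPolynomial.T_zero, one_mul]
  · rw [MvPolynomial.aeval_X, Polynomial.eval_mul, Polynomial.eval_pow, Polynomial.eval_X, zero_pow (by omega), zero_mul]

omit [CharZero k] in
/-- Outside the null cone when the origin is outside the orbit closure. -/
theorem semistableVec_of_not_inOrbitClosure (hG : IsLinearlyReductive k A) (hlin : GLin.IsLinear k A ι) (v : ι → k)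
    (horig : ¬ GLin.InOrbitClosure k A (GLin.vecPt k ι v) (GLin.vecPt k ι (fun _ => (0 : k)))) :
    GLin.IsSemistableVec k A v := by
  classical
  intro hnull
  refine horig ?_
  obtain ⟨z, h1, h2⟩ := (Groth.Agent.HopfLib.comp_invariants_eq_iff hG (GLin.vecPt k ι v)
    (GLin.vecPt k ι (fun _ => (0 : k)))).1 (AlgHom.ext fun ⟨F, hF⟩ => by
      change MvPolynomial.eval v F = MvPolynomial.eval (fun _ => (0 : k)) F
      conv_lhs => rw [← MvPolynomial.sum_homogeneousComponent F]
      conv_rhs => rw [← MvPolynomial.sum_homogeneousComponent F]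
      rw [map_sum, map_sum]
      refine Finset.sum_congr rfl fun e _ => ?_
      rcases Nat.eq_zero_or_pos e with rfl | he
      · rw [MvPolynomial.homogeneousComponent_zero, MvPolynomial.eval_C, MvPolynomial.eval_C]
      · rw [hnull _ (Groth.Agent.HopfLib.homogeneousComponent_mem_invariants hlin e hF) e he
            (MvPolynomial.homogeneousComponent_isHomogeneous e F),
          Groth.Agent.HopfLib.eval_zero_of_isHomogeneous he
            (MvPolynomial.homogeneousComponent_isHomogeneous e F)])
  refine Groth.Agent.HopfLib.inOrbitClosure_trans h1 ?_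
  have hfix : Groth.Agent.HopfLib.IsClosedPtOrbit k A (GLin.vecPt k ι (fun _ => (0 : k))) := by
    intro w hw
    refine ⟨Bialgebra.counitAlgHom k A, ?_⟩
    have hw0 : ∀ i, w (MvPolynomial.X i) = 0 := fun i => hw (RingHom.mem_ker.2 (by
      obtain ⟨m, hm⟩ := hlin i
      rw [Groth.Agent.HopfLib.orbitHom_eq_cf, Groth.Agent.HopfLib.cf_apply, hm, map_sum]
      exact Finset.sum_eq_zero fun j _ => by simp [GLin.vecPt]))
    refine MvPolynomial.algHom_ext fun i => ?_
    rw [Groth.Agent.HopfLib.actPt_eq, AlgHom.comp_apply, Bialgebra.counitAlgHom_apply,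
      Groth.Agent.HopfLib.counit_orbitHom, hw0]
    simp [GLin.vecPt]
  exact hfix.mem_closure h2

theorem semistable_iff (hG : IsLinearlyReductive k A) (hlin : GLin.IsLinear k A ι) (v : ι → k) (hv : v ≠ 0) :
    GLin.IsSemistableVec k A v ↔
      ∀ (lam : A →ₐc[k] k[T;T⁻¹]) (m : ℤ), GLin.IsMu k A lam v m → 0 ≤ m := by
  classical
  constructor
  · intro hss lam m hmu
    by_contra hm
    obtain ⟨g, hg, hg0⟩ := exists_limit lam v hmu (le_of_lt (not_le.1 hm))
    refine hss fun F hF d hd hhom => ?_
    have h1 : g F = Polynomial.C (MvPolynomial.eval v F) := by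
      apply Polynomial.toLaurent_injective
      have h2 := AlgHom.congr_fun hg F
      rw [AlgHom.comp_apply] at h2
      rw [← Polynomial.toLaurentAlg_apply, h2, Polynomial.toLaurent_C]
      show lam (GLin.orbitHom k A (GLin.vecPt k ι v) F) = _
      rw [orbitHom_of_mem_invariants _ hF, AlgHomClass.commutes]
      rfl
    have h3 : (Polynomial.aeval (0 : k)).comp g = MvPolynomial.aeval (fun _ => (0 : k)) :=
      MvPolynomial.algHom_ext fun i => by
        rw [AlgHom.comp_apply, MvPolynomial.aeval_X, Polynomial.coe_aeval_eq_eval]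
        exact hg0 (not_le.1 hm) i
    have h4 := AlgHom.congr_fun h3 F
    rw [AlgHom.comp_apply, h1, Polynomial.aeval_C] at h4
    rw [show MvPolynomial.aeval (fun _ => (0 : k)) F = MvPolynomial.eval (fun _ => (0 : k)) F from rfl,
      eval_zero_of_isHomogeneous hd hhom] at h4
    simpa using h4
  · intro hmu
    by_contra hns
    have horig : GLin.InOrbitClosure k A (GLin.vecPt k ι v) (GLin.vecPt k ι (fun _ => (0 : k))) := by
      by_contra h
      exact hns (semistableVec_of_not_inOrbitClosure hG hlin v h)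
    let f := (GLin.orbitHom k A (GLin.vecPt k ι v)).toRingHom
    let p0 : Ideal (MvPolynomial ι k) := RingHom.ker (GLin.vecPt k ι fun _ => (0 : k))
    have hle : RingHom.ker f ≤ p0 := horig
    have hp0 : p0.IsPrime := RingHom.ker_isPrime _
    obtain ⟨Q, hQ, hQp⟩ := Ideal.exists_minimalPrimes_le (I := RingHom.ker f) hle
    obtain ⟨q, hq, -, hqQ⟩ := Ideal.exists_comap_eq_of_mem_minimalPrimes (f := f) (I := (⊥ : Ideal A)) Q
      (by rwa [← RingHom.ker_eq_comap_bot])
    let K := FractionRing (A ⧸ q)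
    let ψ : A →ₐ[k] K := (IsScalarTower.toAlgHom k (A ⧸ q) K).comp (Ideal.Quotient.mkₐ k q)
    let h : MvPolynomial ι k →+* K := ψ.toRingHom.comp f
    have hker : RingHom.ker h ≤ p0 := by
      intro x hx
      refine hQp ?_
      rw [← hqQ, Ideal.mem_comap]
      simpa [h, ψ, f, IsFractionRing.to_map_eq_zero_iff, Ideal.Quotient.eq_zero_iff_mem] using hx
    let I : Ideal h.range := Ideal.map h.rangeRestrict p0
    have hI : I ≠ ⊤ := fun htop => by
      obtain ⟨x, hx, hx1⟩ := (Ideal.mem_map_iff_of_surjective _ h.rangeRestrict_surjective).1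
        (show (1 : h.range) ∈ I by rw [htop]; trivial)
      have h3 : x - 1 ∈ p0 := hker (by
        rw [RingHom.mem_ker, map_sub, map_one, sub_eq_zero]
        exact congrArg Subtype.val hx1)
      exact hp0.ne_top ((Ideal.eq_top_iff_one _).2 (by simpa using p0.sub_mem hx h3))
    obtain ⟨O, hO, hnon⟩ := Ideal.image_subset_nonunits_valuationSubring I hI
    have hk : ∀ c : k, algebraMap k K c ∈ O := fun c => by
      have h1 := hO ⟨MvPolynomial.C c, rfl⟩
      change ψ (f (MvPolynomial.C c)) ∈ O at h1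
      rwa [show f (MvPolynomial.C c) = algebraMap k A c from
        (GLin.orbitHom k A (GLin.vecPt k ι v)).commutes c, AlgHom.commutes] at h1
    obtain ⟨lam, qq, hqq, hpos, -⟩ := exists_lam hG hlin v O hk ψ fun i => hO ⟨MvPolynomial.X i, rfl⟩
    obtain ⟨e, he, hepos⟩ := exists_mu lam v hv qq hqq
    have h0 := hepos (hpos fun i => by
      have hmem : (MvPolynomial.X i : MvPolynomial ι k) ∈ p0 := by simp [p0, GLin.vecPt, RingHom.mem_ker]
      exact (ValuationSubring.mem_nonunits_iff _).1
        (hnon ⟨⟨h (MvPolynomial.X i), ⟨_, rfl⟩⟩, Ideal.mem_map_of_mem _ hmem, rfl⟩))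
    have := hmu lam _ he
    omega

/-- The point of the group attached to a value of the parameter. -/
def lamPt (lam : A →ₐc[k] k[T;T⁻¹]) (s : k) (hs : s ≠ 0) : A →ₐ[k] k :=
  (InvQ8.SemiInv.evalT s hs).comp (lam : A →ₐ[k] k[T;T⁻¹])

omit [IsAlgClosed k] [CharZero k] [Algebra.FiniteType k A] in
theorem actPt_lamPt (lam : A →ₐc[k] k[T;T⁻¹]) (s t : k) (hs : s ≠ 0) (ht : t ≠ 0) (x : MvPolynomial ι k →ₐ[k] k) :
    GLin.actPt k (lamPt lam s hs) (GLin.actPt k (lamPt lam t ht) x) =
      GLin.actPt k (lamPt lam (t * s) (mul_ne_zero ht hs)) x := by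
  rw [actPt_actPt]
  refine congrArg (fun g => GLin.actPt k g x) (AlgHom.ext fun a => ?_)
  rw [actPt_eq, AlgHom.comp_apply]
  simp only [GLin.orbitHom, AlgHom.comp_apply, GLin.coactAlgHom_apply]
  have h1 : ((Algebra.TensorProduct.lmul' k).comp (Algebra.TensorProduct.map (InvQ8.SemiInv.evalT t ht)
      (InvQ8.SemiInv.evalT s hs))).comp (Bialgebra.comulAlgHom k k[T;T⁻¹]) =
      InvQ8.SemiInv.evalT (t * s) (mul_ne_zero ht hs) := by
    refine AddMonoidAlgebra.algHom_ext (fun n => ?_) (Subsingleton.elim (α := k →ₐ[k] k) _ _)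
    show _ = InvQ8.SemiInv.evalT (t * s) _ (LaurentPolynomial.T n)
    rw [InvQ8.SemiInv.evalT_T, AlgHom.comp_apply, Bialgebra.comulAlgHom_apply,
      show (AddMonoidAlgebra.single n (1 : k) : k[T;T⁻¹]) = LaurentPolynomial.T n from rfl]
    simp [InvQ8.SemiInv.evalT_T, mul_zpow]
  show _ = InvQ8.SemiInv.evalT (t * s) (mul_ne_zero ht hs) (lam a)
  rw [← h1, AlgHom.comp_apply, Bialgebra.comulAlgHom_apply, ← CoalgHomClass.map_comp_comul_apply lam a]
  change lamPt lam s hs (Algebra.TensorProduct.lid k A (Algebra.TensorProduct.map (lamPt lam t ht) (AlgHom.id k A)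
    (comul (R := k) a))) = _
  generalize comul (R := k) a = w
  induction w using TensorProduct.induction_on with
  | zero => simp
  | add p q hp hq => simp only [map_add, hp, hq]
  | tmul p q => simp [lamPt]

theorem stable_iff (hG : IsLinearlyReductive k A) (hlin : GLin.IsLinear k A ι) (v : ι → k) (hv : v ≠ 0) :
    GLin.IsStableVec k A v ↔
      ∀ lam : A →ₐc[k] k[T;T⁻¹], ¬ SGA3t2b.IsTrivialBialgHom lam →
        ∀ m : ℤ, GLin.IsMu k A lam v m → 0 < m := by
  classical
  constructor
  · intro hst lam hnt m hmu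
    by_contra hm
    refine hnt ?_
    obtain ⟨g, hg, -⟩ := exists_limit lam v hmu (not_lt.1 hm)
    let x := GLin.vecPt k ι v
    let y := (Polynomial.aeval (0 : k)).comp g
    have hclo : GLin.InOrbitClosure k A x y := fun F hF => by
      refine RingHom.mem_ker.2 ?_
      have h1 : g F = 0 := Polynomial.toLaurent_injective (by
        rw [map_zero, ← Polynomial.toLaurentAlg_apply, ← AlgHom.comp_apply, hg]
        show lam (GLin.orbitHom k A x F) = 0
        rw [RingHom.mem_ker.1 hF, map_zero])
      show Polynomial.aeval (0 : k) (g F) = 0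
      rw [h1, map_zero]
    obtain ⟨g0, hg0⟩ := isClosedPtOrbit_of_isClosedOrbit hst.1 y hclo
    have hfin : (stabPts A y).Finite := by
      rw [hg0]
      exact stabPts_actPt g0 ((hasFiniteStab_iff x).1 hst.2)
    have heval : ∀ t (ht : t ≠ 0) F, (g F).eval t = GLin.actPt k (lamPt lam t ht) x F := fun t ht F => by
      rw [← InvQ8.SemiInv.evalT_toLaurent t ht]
      show InvQ8.SemiInv.evalT t ht ((Polynomial.toLaurentAlg.comp g) F) = _
      rw [hg]
      rfl
    have hact : ∀ (c : A →ₐ[k] k) (z : MvPolynomial ι k →ₐ[k] k) (i : ι) (mm : ι → A),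
        HopfRep.Comod.coact (k := k) (A := A) (MvPolynomial.X i : MvPolynomial ι k) =
          ∑ j, (MvPolynomial.X j : MvPolynomial ι k) ⊗ₜ[k] mm j →
        GLin.actPt k c z (MvPolynomial.X i) = ∑ j, z (MvPolynomial.X j) * c (mm j) := fun c z i mm hmm => by
      simp [GLin.actPt, GLin.orbitHom, GLin.coactAlgHom_apply, hmm]
    have hstab : ∀ s (hs : s ≠ 0), lamPt lam s hs ∈ stabPts A y := fun s hs => by
      show GLin.actPt k (lamPt lam s hs) y = y
      refine MvPolynomial.algHom_ext fun i => ?_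
      obtain ⟨mm, hmm⟩ := hlin i
      rw [hact _ _ i mm hmm]
      have h2 : ∑ j, Polynomial.C (lamPt lam s hs (mm j)) * g (MvPolynomial.X j) =
          (g (MvPolynomial.X i)).comp (Polynomial.C s * Polynomial.X) := by
        refine InvQ8.SemiInv.poly_ext fun t ht => ?_
        rw [Polynomial.eval_finsetSum, Polynomial.eval_comp, Polynomial.eval_mul, Polynomial.eval_C, Polynomial.eval_X,
          heval (s * t) (mul_ne_zero hs ht)]
        have h3 : GLin.actPt k (lamPt lam (s * t) (mul_ne_zero hs ht)) x =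
            GLin.actPt k (lamPt lam s hs) (GLin.actPt k (lamPt lam t ht) x) := by
          rw [actPt_lamPt]; congr 2; exact mul_comm s t
        rw [h3, hact _ _ i mm hmm]
        simp only [Polynomial.eval_mul, Polynomial.eval_C, heval t ht]
        exact Finset.sum_congr rfl fun j _ => mul_comm _ _
      have h4 := congrArg (fun p : Polynomial k => p.eval 0) h2
      simp only [Polynomial.eval_finsetSum, Polynomial.eval_mul, Polynomial.eval_C, Polynomial.eval_comp,
        Polynomial.eval_X, mul_zero] at h4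
      simp only [y, AlgHom.comp_apply, Polynomial.coe_aeval_eq_eval]
      rw [← h4]
      exact Finset.sum_congr rfl fun j _ => mul_comm _ _
    intro a
    obtain ⟨n, p, hp⟩ := (lam a).exists_T_pow
    have hvals : ((fun c : A →ₐ[k] k => c a) '' stabPts A y).Finite := hfin.image _
    have hroot : ∏ b ∈ hvals.toFinset, (p - Polynomial.C b * Polynomial.X ^ n) = 0 := by
      refine InvQ8.SemiInv.poly_ext fun t ht => ?_
      rw [Polynomial.eval_prod, Polynomial.eval_zero]
      refine Finset.prod_eq_zero (i := lamPt lam t ht a) (hvals.mem_toFinset.2 ⟨_, hstab t ht, rfl⟩) ?_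
      rw [Polynomial.eval_sub, Polynomial.eval_mul, Polynomial.eval_C, Polynomial.eval_pow, Polynomial.eval_X,
        ← InvQ8.SemiInv.evalT_toLaurent t ht, Polynomial.toLaurentAlg_apply, hp, map_mul, InvQ8.SemiInv.evalT_T,
        zpow_natCast]
      exact sub_self _
    obtain ⟨b, -, hb⟩ := Finset.prod_eq_zero_iff.1 hroot
    have hlam : lam a = algebraMap k k[T;T⁻¹] b := by
      rw [sub_eq_zero.1 hb, map_mul, Polynomial.toLaurent_C, Polynomial.toLaurent_X_pow] at hp
      exact ((LaurentPolynomial.isUnit_T n).mul_left_injective hp).symm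
    rw [hlam]
    congr 1
    have h5 := CoalgHomClass.counit_comp_apply lam a
    rw [hlam] at h5
    simpa using h5
  · intro hmu
    let f := (GLin.orbitHom k A (GLin.vecPt k ι v)).toRingHom
    have hint : f.IsIntegral := fun a => by
      by_contra hni
      obtain ⟨K, iK, O, ψ, hR, hX⟩ := CommAlg4.exists_valuation_of_not_integral f a hni
      letI : Algebra k K := (ψ.comp (algebraMap k A)).toAlgebra
      let ψA : A →ₐ[k] K := { ψ with commutes' := fun c => rfl }
      have hk : ∀ c : k, algebraMap k K c ∈ O := fun c => by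
        have h1 := hR (MvPolynomial.C c)
        rwa [show f (MvPolynomial.C c) = algebraMap k A c from
          (GLin.orbitHom k A (GLin.vecPt k ι v)).commutes c] at h1
      obtain ⟨lam, qq, hqq, -, hnt⟩ := exists_lam hG hlin v O hk ψA fun i => hR _
      obtain ⟨e, he, -⟩ := exists_mu lam v hv qq hqq
      have := hmu lam (hnt ⟨a, hX⟩) _ he
      omega
    refine ⟨(PrimeSpectrum.isClosedMap_comap_of_isIntegral _ hint).isClosed_range, ?_⟩
    let I : Ideal A := Ideal.map f (RingHom.ker (GLin.vecPt k ι v))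
    show Module.Finite k (A ⧸ I)
    let mk : A →ₐ[k] A ⧸ I := Ideal.Quotient.mkₐ k I
    have hred : ∀ c, mk (f c) = algebraMap k _ (GLin.vecPt k ι v c) := fun c => by
      have h1 : f (c - MvPolynomial.C (GLin.vecPt k ι v c)) ∈ I :=
        Ideal.mem_map_of_mem _ (by simp [RingHom.mem_ker, GLin.vecPt])
      rw [map_sub, ← Ideal.Quotient.eq, show f (MvPolynomial.C (GLin.vecPt k ι v c)) = algebraMap k _ _ from
        (GLin.orbitHom k A (GLin.vecPt k ι v)).commutes _] at h1
      exact h1.trans rfl
    have : Algebra.IsIntegral k (A ⧸ I) := ⟨fun y => by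
      obtain ⟨x, rfl⟩ := Ideal.Quotient.mk_surjective y
      obtain ⟨p, hp, hpx⟩ := hint x
      refine ⟨p.map (GLin.vecPt k ι v).toRingHom, hp.map _, ?_⟩
      rw [Polynomial.eval₂_map]
      have h2 := congrArg mk hpx
      rw [map_zero] at h2
      refine Eq.trans ?_ h2
      rw [show mk (Polynomial.eval₂ f x p) = mk.toRingHom (Polynomial.eval₂ f x p) from rfl, Polynomial.hom_eval₂]
      exact Polynomial.eval₂_congr (RingHom.ext fun c => (hred c).symm) rfl rfl⟩
    have : Algebra.FiniteType k (A ⧸ I) := Algebra.FiniteType.of_surjective mk (Ideal.Quotient.mkₐ_surjective k I)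
    exact Algebra.IsIntegral.finite

end Groth.Agent.HM8
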