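import Groth.Agent.HopfLib.GLnDiag
import Groth.Agent.HopfLib.GLnReductive
import Groth.Agent.HopfLib.GITPoints
import Mathlib.Algebra.DualNumber
import Mathlib.Algebra.MonoidAlgebra.Basic

/-!
# Points of the general linear group with values in algebras
-/

set_option autoImplicit false
set_option backward.isDefEq.respectTransparency false
set_option backward.isDefEq.respectTransparency.types false

universe u v w

noncomputable section

open CoordGrp TensorProduct

namespace Groth.Agent.HM8

variable {k : Type u} [Field k] {N : ℕ} {B : Type v} [CommRing B] [Algebra k B] {B' : Type w} [CommRing B']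
  [Algebra k B']

/-- The matrix of a point. -/
def mat (φ : GLn N k →ₐ[k] B) : Matrix (Fin N) (Fin N) B := fun i j => φ (GLn.X i j)

/-- The point of an invertible matrix. -/
def ptU (M : Matrix (Fin N) (Fin N) B) (h : IsUnit M.det) : GLn N k →ₐ[k] B :=
  GLn.pt N k M ↑h.unit⁻¹ h.mul_val_inv

theorem mat_ptU (M : Matrix (Fin N) (Fin N) B) (h : IsUnit M.det) : mat (ptU (k := k) M h) = M := by
  funext i j
  simp [mat, ptU]

theorem det_mat_mul (φ : GLn N k →ₐ[k] B) : (mat φ).det * φ GLn.Dinv = 1 := by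
  have h := congrArg φ (GLn.det_mul_Dinv (n := N) (k := k))
  rwa [map_mul, map_one, GLn.det_eq, AlgHom.map_det] at h

theorem isUnit_det_mat (φ : GLn N k →ₐ[k] B) : IsUnit (mat φ).det :=
  IsUnit.of_mul_eq_one _ (det_mat_mul φ)

theorem pt_ext {φ ψ : GLn N k →ₐ[k] B} (e : mat φ = mat ψ) : φ = ψ := by
  refine GLn.algHom_ext (fun i j => congrFun (congrFun e i) j) ?_
  have hψ := det_mat_mul ψ
  rw [← e] at hψ
  exact (isUnit_det_mat φ).mul_left_cancel ((det_mat_mul φ).trans hψ.symm)

theorem mat_comp (g : B →ₐ[k] B') (φ : GLn N k →ₐ[k] B) : mat (g.comp φ) = (mat φ).map g := rfl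

/-- The product of two points. -/
def conv (φ ψ : GLn N k →ₐ[k] B) : GLn N k →ₐ[k] B :=
  (Algebra.TensorProduct.lmul' k).comp ((Algebra.TensorProduct.map φ ψ).comp (Bialgebra.comulAlgHom k (GLn N k)))

theorem mat_conv (φ ψ : GLn N k →ₐ[k] B) : mat (conv φ ψ) = mat φ * mat ψ := by
  funext i j
  simp [mat, conv, GLn.comul_X, Matrix.mul_apply]

/-- The unit point. -/
def onePt : GLn N k →ₐ[k] B := (Algebra.ofId k B).comp (Bialgebra.counitAlgHom k (GLn N k))

theorem mat_onePt : mat (onePt (k := k) (N := N) (B := B)) = 1 := by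
  funext i j
  simp [mat, onePt, GLn.counit_X, Matrix.one_apply, apply_ite (Algebra.ofId k B)]

/-- Translation formula. -/
theorem conv_apply {f : GLn N k} {ι : Type*} {s : Finset ι} {g c : ι → GLn N k}
    (hf : CoalgebraStruct.comul (R := k) f = ∑ l ∈ s, g l ⊗ₜ[k] c l) (φ ψ : GLn N k →ₐ[k] B) :
    conv φ ψ f = ∑ l ∈ s, φ (g l) * ψ (c l) := by
  simp [conv, hf]

theorem apply_eq_of_mul {φ ψ θ : GLn N k →ₐ[k] B} (h : mat φ * mat ψ = mat θ) {f : GLn N k} {ι : Type*}
    {s : Finset ι} {g c : ι → GLn N k} (hf : CoalgebraStruct.comul (R := k) f = ∑ l ∈ s, g l ⊗ₜ[k] c l) :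
    θ f = ∑ l ∈ s, φ (g l) * ψ (c l) := by
  rw [← conv_apply hf, pt_ext ((mat_conv φ ψ).trans h)]

instance : IsDomain (GLn N k) := by
  have : Nontrivial (GLn N k) := (Bialgebra.counitAlgHom k (GLn N k)).toRingHom.domain_nontrivial
  refine (isDomain_iff_noZeroDivisors_and_nontrivial _).2 ⟨⟨fun {a b} hab => ?_⟩, this⟩
  obtain ⟨c, hc⟩ := HopfLib.exists_mul_det_pow a
  obtain ⟨d, hd⟩ := HopfLib.exists_mul_det_pow b
  obtain ⟨x, hx⟩ := hc c le_rfl
  obtain ⟨y, hy⟩ := hd d le_rfl
  have hu : IsUnit (GLn.det : GLn N k) := IsUnit.of_mul_eq_one _ GLn.det_mul_Dinv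
  have hxy : CoordGrp.Mat.toGLn N k (x * y) = 0 := by
    rw [map_mul, hx, hy, mul_mul_mul_comm, hab, zero_mul]
  rcases mul_eq_zero.1 ((map_eq_zero_iff _ HopfLib.toGLn_injective).1 hxy) with h | h
  · exact Or.inl ((hu.pow c).mul_left_eq_zero.1 (by rw [← hx, h, map_zero]))
  · exact Or.inr ((hu.pow d).mul_left_eq_zero.1 (by rw [← hy, h, map_zero]))

instance : Algebra.FiniteType k (GLn N k) :=
  haveI : Algebra.FiniteType k (GLb N k) :=
    inferInstanceAs (Algebra.FiniteType k (MvPolynomial (GLPoly.Idx N) k))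
  Algebra.FiniteType.of_surjective (GLn.mk N k) (Ideal.Quotient.mkₐ_surjective k (GLb.relIdeal N k))

theorem eq_zero_of_points [IsAlgClosed k] {f : GLn N k} (h : ∀ φ : GLn N k →ₐ[k] k, φ f = 0) : f = 0 := by
  by_contra hf
  obtain ⟨φ, hφ⟩ := HopfLib.exists_algHom_ne_zero (k := k) (f := f) (fun hn => hf hn.eq_zero)
  exact hφ (h φ)

/-- A point times a diagonal matrix. -/
theorem exists_weight_hom :
    ∃ τ : GLn N k →ₐ[k] AddMonoidAlgebra (GLn N k) (Fin N → ℤ),
      ∀ a b, τ (GLn.X a b) = AddMonoidAlgebra.single (Pi.single b 1) (GLn.X a b) := by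
  classical
  let D : Matrix (Fin N) (Fin N) (AddMonoidAlgebra (GLn N k) (Fin N → ℤ)) :=
    Matrix.diagonal fun b => AddMonoidAlgebra.single (Pi.single b (1 : ℤ)) (1 : GLn N k)
  let M : Matrix (Fin N) (Fin N) (AddMonoidAlgebra (GLn N k) (Fin N → ℤ)) :=
    (mat (AlgHom.id k (GLn N k))).map AddMonoidAlgebra.singleZeroRingHom * D
  have hM : IsUnit M.det := by
    rw [Matrix.det_mul, Matrix.det_diagonal]
    refine IsUnit.mul ?_ (IsUnit.prod_iff.2 fun b _ => IsUnit.of_mul_eq_one
      (AddMonoidAlgebra.single (-Pi.single b (1 : ℤ)) (1 : GLn N k)) ?_)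
    · rw [← RingHom.mapMatrix_apply, ← RingHom.map_det]
      exact (isUnit_det_mat _).map _
    · rw [AddMonoidAlgebra.single_mul_single, add_neg_cancel, one_mul]
      rfl
  refine ⟨ptU M hM, fun a b => ?_⟩
  simp [ptU, M, D, mat, Matrix.mul_diagonal, AddMonoidAlgebra.singleZeroRingHom, AddMonoidAlgebra.single_mul_single]

/-- The weight homomorphism. -/
def τ : GLn N k →ₐ[k] AddMonoidAlgebra (GLn N k) (Fin N → ℤ) := exists_weight_hom.choose

theorem τ_X (a b : Fin N) :
    τ (GLn.X a b : GLn N k) = AddMonoidAlgebra.single (Pi.single b 1) (GLn.X a b) :=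
  exists_weight_hom.choose_spec a b

/-- A weight vector. -/
def HasWeight (f : GLn N k) (χ : Fin N → ℤ) : Prop := τ f = AddMonoidAlgebra.single χ f

/-- Evaluation of the weight algebra at a point and a diagonal. -/
def evalD (φ : GLn N k →ₐ[k] B) (d : Fin N → Bˣ) : AddMonoidAlgebra (GLn N k) (Fin N → ℤ) →+* B :=
  AddMonoidAlgebra.liftNCRingHom φ.toRingHom
    { toFun := fun χ => ((∏ b, d b ^ (Multiplicative.toAdd χ b) : Bˣ) : B)
      map_one' := by simp
      map_mul' := fun x y => by
        simp [Pi.add_apply, zpow_add, Finset.prod_mul_distrib] }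
    (fun _ _ => Commute.all _ _)

theorem evalD_single (φ : GLn N k →ₐ[k] B) (d : Fin N → Bˣ) (χ : Fin N → ℤ) (f : GLn N k) :
    evalD φ d (AddMonoidAlgebra.single χ f) = φ f * ((∏ b, d b ^ χ b : Bˣ) : B) := by
  simp [evalD]

theorem apply_mul_diag {f : GLn N k} {χ : Fin N → ℤ} (hf : HasWeight f χ) (φ θ : GLn N k →ₐ[k] B)
    (d : Fin N → Bˣ) (h : mat θ = mat φ * Matrix.diagonal fun b => (d b : B)) :
    θ f = φ f * ((∏ b, d b ^ χ b : Bˣ) : B) := by
  classical
  let e : GLn N k →ₐ[k] B :=
    { (evalD φ d).comp (τ (k := k) (N := N)).toRingHom with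
      commutes' := fun c => by
        show evalD φ d (τ (algebraMap k (GLn N k) c)) = _
        rw [AlgHom.commutes, AddMonoidAlgebra.coe_algebraMap, Function.comp_apply, evalD_single]
        simp }
  have he : e = θ := pt_ext (by
    rw [h]
    funext a b
    show evalD φ d (τ (GLn.X a b)) = _
    rw [τ_X, evalD_single, Matrix.mul_diagonal]
    refine congrArg (fun x : Bˣ => mat φ a b * (x : B)) ?_
    rw [Finset.prod_eq_single b (fun l _ hl => by simp [Pi.single_apply, hl]) (by simp), Pi.single_eq_same, zpow_one])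
  rw [← he]
  show evalD φ d (τ f) = _
  rw [show τ f = _ from hf, evalD_single]

theorem hasWeight_span : Submodule.span k {f : GLn N k | ∃ χ, HasWeight f χ} = ⊤ := by
  classical
  refine eq_top_iff.2 fun x _ => ?_
  obtain ⟨p, rfl⟩ := Ideal.Quotient.mk_surjective x
  change GLn.mk N k p ∈ _
  have hone : HasWeight (1 : GLn N k) 0 := by simp [HasWeight, AddMonoidAlgebra.one_def]
  have hmul : ∀ {f g : GLn N k} {χ χ'}, HasWeight f χ → HasWeight g χ' → HasWeight (f * g) (χ + χ') :=
    fun hf hg => by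
      unfold HasWeight at hf hg ⊢
      rw [map_mul, hf, hg, AddMonoidAlgebra.single_mul_single]
  have hdet : HasWeight (GLn.det : GLn N k) (∑ b, Pi.single b 1) := by
    rw [HasWeight, GLn.det_eq, AlgHom.map_det, Matrix.det_apply, Matrix.det_apply]
    rw [← AddMonoidAlgebra.singleAddHom_apply, map_sum]
    refine Finset.sum_congr rfl fun σ _ => ?_
    rw [Units.smul_def, Units.smul_def, map_zsmul]
    refine congrArg _ ?_
    simp only [AlgHom.mapMatrix_apply, Matrix.map_apply, AddMonoidAlgebra.singleAddHom_apply]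
    rw [← AddMonoidAlgebra.prod_single]
    exact Finset.prod_congr rfl fun b _ => τ_X _ _
  have hD : HasWeight (GLn.Dinv : GLn N k) (-∑ b, Pi.single b 1) := by
    have h1 : τ (GLn.det : GLn N k) * τ GLn.Dinv = 1 := by rw [← map_mul, GLn.det_mul_Dinv, map_one]
    have h2 : τ (GLn.det : GLn N k) * AddMonoidAlgebra.single (-∑ b, Pi.single b (1 : ℤ)) GLn.Dinv = 1 := by
      rw [show τ (GLn.det : GLn N k) = _ from hdet, AddMonoidAlgebra.single_mul_single, add_neg_cancel, GLn.det_mul_Dinv]
      rfl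
    exact (IsUnit.of_mul_eq_one _ h1).mul_left_cancel (h1.trans h2.symm)
  have hgen : ∀ i, ∃ χ, HasWeight (GLn.mk N k (MvPolynomial.X i)) χ := by
    rintro (⟨a, b⟩ | ⟨⟩)
    exacts [⟨_, τ_X a b⟩, ⟨_, hD⟩]
  have hmem : ∀ p : MvPolynomial (GLPoly.Idx N) k, GLn.mk N k p ∈ Submodule.span k {f : GLn N k | ∃ χ, HasWeight f χ} := by
    intro p
    induction p using MvPolynomial.induction_on with
    | C a =>
      have h : GLn.mk N k (MvPolynomial.C a) = a • (1 : GLn N k) :=
        ((GLn.mk N k).commutes a).trans (Algebra.algebraMap_eq_smul_one a)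
      rw [h]
      exact Submodule.smul_mem _ _ (Submodule.subset_span ⟨0, hone⟩)
    | add p q hp hq => exact (map_add (GLn.mk N k) p q).symm ▸ add_mem hp hq
    | mul_X p i hp =>
      obtain ⟨χ', hχ'⟩ := hgen i
      have h : ∀ y ∈ Submodule.span k {f : GLn N k | ∃ χ, HasWeight f χ},
          y * GLn.mk N k (MvPolynomial.X i) ∈ Submodule.span k {f : GLn N k | ∃ χ, HasWeight f χ} := fun y hy => by
        induction hy using Submodule.span_induction with
        | mem z hz => obtain ⟨χ, hχ⟩ := hz; exact Submodule.subset_span ⟨_, hmul hχ hχ'⟩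
        | zero => simp
        | add a b _ _ ha hb => rw [add_mul]; exact add_mem ha hb
        | smul c a _ ha => rw [smul_mul_assoc]; exact Submodule.smul_mem _ c ha
      exact (map_mul (GLn.mk N k) p (MvPolynomial.X i)).symm ▸ h _ hp
  exact hmem p

/-- The components of a function are weight vectors adding up to it. -/
theorem coeff_τ (f : GLn N k) :
    (∀ χ, HasWeight ((τ f).coeff χ) χ) ∧ ∑ χ ∈ (τ f).coeff.support, (τ f).coeff χ = f := by
  classical
  constructor
  · intro χ
    have hf : f ∈ Submodule.span k {f : GLn N k | ∃ χ, HasWeight f χ} := by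
      rw [hasWeight_span]; exact Submodule.mem_top
    induction hf using Submodule.span_induction with
    | mem z hz =>
      obtain ⟨χ', hz⟩ := hz
      rw [show τ z = _ from hz, AddMonoidAlgebra.coeff_single, Finsupp.single_apply]
      split_ifs with h
      · exact h ▸ hz
      · simp [HasWeight]
    | zero => simp [HasWeight]
    | add a b _ _ ha hb =>
      simp only [HasWeight, map_add, AddMonoidAlgebra.coeff_add, Finsupp.add_apply, AddMonoidAlgebra.single_add] at ha hb ⊢
      rw [ha, hb]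
    | smul c a _ ha =>
      simp only [HasWeight, map_smul, AddMonoidAlgebra.coeff_smul, Finsupp.smul_apply] at ha ⊢
      rw [ha, AddMonoidAlgebra.smul_single]
  · let ev : AddMonoidAlgebra (GLn N k) (Fin N → ℤ) →+* GLn N k := evalD (AlgHom.id k (GLn N k)) 1
    have h1 : ev (τ f) = f := by
      have hf : f ∈ Submodule.span k {f : GLn N k | ∃ χ, HasWeight f χ} := by
        rw [hasWeight_span]; exact Submodule.mem_top
      induction hf using Submodule.span_induction with
      | mem z hz => obtain ⟨χ', hz⟩ := hz; rw [show τ z = _ from hz]; simp [ev, evalD_single]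
      | zero => simp
      | add a b _ _ ha hb => rw [map_add, map_add, ha, hb]
      | smul c a _ ha =>
        rw [map_smul, Algebra.smul_def, Algebra.smul_def, map_mul, ha]
        simp [ev, AddMonoidAlgebra.coe_algebraMap, evalD_single]
    conv_rhs => rw [← h1, ← AddMonoidAlgebra.sum_coeff_single (τ f)]
    simp [Finsupp.sum, map_sum, ev, evalD_single]

end Groth.Agent.HM8
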