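import Groth.Agent.HM8.Tangent
import Groth.Agent.CommAlg4.ValSmith
import Groth.Agent.OrdLib.Gordan
import Mathlib.RingTheory.Valuation.ValuationSubring
import Mathlib.LinearAlgebra.FreeModule.PID
import Mathlib.GroupTheory.Finiteness

/-!
# From an integral valued point to weights over the ground field
-/

set_option autoImplicit false
set_option backward.isDefEq.respectTransparency false
set_option backward.isDefEq.respectTransparency.types false

universe u v

noncomputable section

open CoordGrp TensorProduct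
open CoalgebraStruct (comul counit)

namespace Groth.Agent.HM8

/-- Integral weights with the same signs on finitely many linear forms. -/
theorem exists_int_signs {N : ℕ} {Γ : Type v} [AddCommGroup Γ] [LinearOrder Γ] [IsOrderedAddMonoid Γ]
    (γ : Fin N → Γ) (S : Finset (Fin N → ℤ)) :
    ∃ r : Fin N → ℤ, ∀ a ∈ S, (0 < ∑ i, a i • γ i → 0 < ∑ i, a i * r i) ∧
      (∑ i, a i • γ i < 0 → ∑ i, a i * r i < 0) ∧ (∑ i, a i • γ i = 0 → ∑ i, a i * r i = 0) := by
  classical
  let H : Submodule ℤ Γ := Submodule.span ℤ (Set.range γ)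
  have : Module.Finite ℤ H := Module.Finite.span_of_finite ℤ (Set.finite_range γ)
  have : Module.IsTorsionFree ℤ H := inferInstance
  have : Module.Free ℤ H := Module.free_of_finite_type_torsion_free'
  let b := Module.Free.chooseBasis ℤ H
  let φ : H →ₗ[ℤ] (Module.Free.ChooseBasisIndex ℤ H →₀ ℚ) :=
    (Finsupp.mapRange.linearMap (Algebra.linearMap ℤ ℚ)).comp b.repr.toLinearMap
  have hφ : Function.Injective φ := by
    refine (Finsupp.mapRange_injective _ (map_zero _) ?_).comp b.repr.injective
    exact Int.cast_injective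
  let gH : Fin N → H := fun i => ⟨γ i, Submodule.subset_span ⟨i, rfl⟩⟩
  let s := S.filter fun a => ∑ i, a i • γ i ≠ 0
  let ev : (Fin N → ℤ) → H := fun a => ∑ i, a i • gH i
  have hev : ∀ a, (ev a : Γ) = ∑ i, a i • γ i := fun a => by simp [ev, gH]
  let x : (Fin N → ℤ) → H := fun a => if 0 < ∑ i, a i • γ i then ev a else -ev a
  have hpos : ∀ a ∈ s, 0 < (x a : Γ) := fun a ha => by
    simp only [x]
    split_ifs with h
    · rw [hev]; exact h
    · rw [Submodule.coe_neg, hev, neg_pos]
      exact lt_of_le_of_ne (not_lt.1 h) (Finset.mem_filter.1 ha).2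
  have clear_den : ∀ {ι : Type} (T : Finset ι) (c : ι → ℚ), ∃ (D : ℕ) (m : ι → ℤ), 0 < D ∧
      ∀ i ∈ T, (m i : ℚ) = D * c i := by
    intro ι T c
    refine ⟨∏ i ∈ T, (c i).den, fun i => (∏ j ∈ T.erase i, ((c j).den : ℤ)) * (c i).num,
      Finset.prod_pos fun i _ => (c i).den_pos, fun i hi => ?_⟩
    rw [← Finset.mul_prod_erase T _ hi]
    push_cast
    rw [← Rat.mul_den_eq_num (c i)]; ring
  obtain ⟨f, hf⟩ := OrdLib.exists_dual_pos (k := ℚ) s (fun o => φ (x o)) fun c hc h0 o ho => by
    obtain ⟨D, m, hD, hm⟩ := clear_den s c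
    have hm0 : ∀ o ∈ s, 0 ≤ m o := fun o ho => by
      have : (0 : ℚ) ≤ m o := by rw [hm o ho]; exact mul_nonneg (Nat.cast_nonneg D) (hc o ho)
      exact_mod_cast this
    have h1 : ∑ o ∈ s, m o • x o = 0 := hφ (by
      rw [map_zero, map_sum]
      have h2 := congrArg ((D : ℚ) • ·) h0
      simp only [smul_zero, Finset.smul_sum, smul_smul] at h2
      rw [← h2]
      exact Finset.sum_congr rfl fun o ho => by rw [map_zsmul, ← Int.cast_smul_eq_zsmul ℚ, hm o ho])
    have h3 : ∑ o ∈ s, m o • (x o : Γ) = 0 := by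
      have h4 := congrArg (Subtype.val : H → Γ) h1
      simpa using h4
    have h5 := (Finset.sum_eq_zero_iff_of_nonneg fun o ho => smul_nonneg (hm0 o ho) (hpos o ho).le).1 h3 o ho
    have h6 : m o = 0 := (smul_eq_zero.1 h5).resolve_right (hpos o ho).ne'
    have h7 := hm o ho
    rw [h6, Int.cast_zero, eq_comm, mul_eq_zero] at h7
    exact h7.resolve_left (Nat.cast_ne_zero.2 hD.ne')
  obtain ⟨D, m, hD, hm⟩ := clear_den Finset.univ fun i => f (φ (gH i))
  have hlin : ∀ c : Fin N → ℤ, ((∑ i, c i * m i : ℤ) : ℚ) = D * f (φ (ev c)) := fun c => by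
    simp only [ev, map_sum, map_zsmul, Finset.mul_sum, Int.cast_sum, Int.cast_mul, hm _ (Finset.mem_univ _), zsmul_eq_mul]
    exact Finset.sum_congr rfl fun i _ => by ring
  refine ⟨m, fun a ha => ⟨fun h => ?_, fun h => ?_, fun h => ?_⟩⟩
  · have h1 := hf a (Finset.mem_filter.2 ⟨ha, h.ne'⟩)
    simp only [x, h, if_true] at h1
    have : (0 : ℚ) < ((∑ i, a i * m i : ℤ) : ℚ) := by rw [hlin]; exact mul_pos (Nat.cast_pos.2 hD) h1
    exact_mod_cast this
  · have h1 := hf a (Finset.mem_filter.2 ⟨ha, h.ne⟩)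
    simp only [x, not_lt.2 h.le, if_false, map_neg, neg_pos] at h1
    have : ((∑ i, a i * m i : ℤ) : ℚ) < 0 := by rw [hlin]; exact mul_neg_of_pos_of_neg (Nat.cast_pos.2 hD) h1
    exact_mod_cast this
  · have h0 : ev a = 0 := Subtype.ext ((hev a).trans h)
    have h1 := hlin a
    rw [h0, map_zero, map_zero, mul_zero] at h1
    exact_mod_cast h1

variable {k : Type u} [Field k] [IsAlgClosed k] {N : ℕ} {A : Type u} [CommRing A] [HopfAlgebra k A]
  {π : GLn N k →ₐc[k] A} (F : Frame π)

/-- Weights and a point over the ground field from an integral valued point of the subgroup. -/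
theorem Frame.exists_weights {K : Type u} [Field K] [Algebra k K] (O : ValuationSubring K)
    (hk : ∀ c : k, algebraMap k K c ∈ O) (M : GLn N k →ₐ[k] K)
    (hMf : ∀ l, M (F.f l) = algebraMap k K (counit (R := k) (F.f l))) (w : Fin N → k)
    (hint : ∀ j, (∑ a, algebraMap k K (w a) * mat M a j) ∈ O) :
    ∃ (r : Fin N → ℤ) (P : GLn N k →ₐ[k] k),
      (∀ j, r j < 0 → Matrix.vecMul w (mat P) j = 0) ∧
      ((∀ j, O.valuation (∑ a, algebraMap k K (w a) * mat M a j) < 1) →
        ∀ j, r j ≤ 0 → Matrix.vecMul w (mat P) j = 0) ∧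
      (∀ i, F.wt r i < 0 → P (F.f i) = 0) ∧
      (∀ x, M x ∉ O → r ≠ 0) := by
  classical
  have hM0 : (mat M).det ≠ 0 := (isUnit_det_mat M).ne_zero
  obtain ⟨U, W, δ, hU, hW, hMeq⟩ := CommAlg4.exists_smith O (mat M) hM0
  letI algO : Algebra k O := ((algebraMap k K).codRestrict O.toSubring hk).toAlgebra
  haveI : IsScalarTower k O K := IsScalarTower.of_algebraMap_eq fun c => rfl
  let vO : O →ₐ[k] K := IsScalarTower.toAlgHom k O K
  let κ := IsLocalRing.ResidueField O
  let res : O →ₐ[k] κ := { IsLocalRing.residue O with commutes' := fun c => rfl }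
  let U' : Matrix (Fin N) (Fin N) K := U.map vO
  have hMeq' : mat M = U' * Matrix.diagonal δ * W.map vO := hMeq
  have hδ0 : ∀ i, δ i ≠ 0 := fun i h => by
    apply hM0
    rw [hMeq', Matrix.det_mul, Matrix.det_mul, Matrix.det_diagonal, Finset.prod_eq_zero (Finset.mem_univ i) h,
      mul_zero, zero_mul]
  let d : Fin N → Kˣ := fun i => Units.mk0 (δ i) (hδ0 i)
  let uO := ptU (k := k) U hU
  let wi := ptU (k := k) W⁻¹ (by rw [Matrix.det_nonsing_inv]; exact hW.ringInverse)
  have hUD : IsUnit (U' * Matrix.diagonal δ).det := by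
    rw [Matrix.det_mul, Matrix.det_diagonal]
    refine IsUnit.mul ?_ (IsUnit.prod_iff.2 fun i _ => isUnit_iff_ne_zero.2 (hδ0 i))
    show IsUnit (vO.mapMatrix U).det
    rw [← AlgHom.map_det]
    exact hU.map vO
  let θ := ptU (k := k) _ hUD
  have hθ : mat M * mat (vO.comp wi) = mat θ := by
    rw [mat_comp, mat_ptU, mat_ptU, hMeq', mul_assoc, ← Matrix.map_mul (L := W), Matrix.mul_nonsing_inv _ hW,
      Matrix.map_one _ (map_zero vO) (map_one vO), mul_one]
  -- values of the functions
  have hf : ∀ i, vO (uO (F.f i)) * ((∏ b, d b ^ F.w i b : Kˣ) : K) = vO (wi (F.f i)) := fun i => by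
    have h1 := apply_mul_diag (F.weight i) (vO.comp uO) θ d (by rw [mat_comp, mat_ptU, mat_ptU]; rfl)
    refine h1.symm.trans ?_
    rw [apply_eq_of_mul hθ (F.comul_f i)]
    have h2 := apply_eq_of_mul (θ := wi) (φ := onePt) (ψ := wi) (by rw [mat_onePt, one_mul]) (F.comul_f i)
    rw [h2, map_sum]
    refine Finset.sum_congr rfl fun l _ => ?_
    rw [map_mul, hMf]
    simp [onePt, Algebra.ofId_apply, vO, ← IsScalarTower.algebraMap_apply]
  let γ : Fin N → Additive (O.ValueGroup)ˣ := fun j =>
    -Additive.ofMul (Units.map O.valuation.toMonoidWithZeroHom.toMonoidHom (d j))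
  let vd : Kˣ →* (O.ValueGroup)ˣ := Units.map O.valuation.toMonoidWithZeroHom.toMonoidHom
  have hγ : ∀ a : Fin N → ℤ, ∑ j, a j • γ j = -Additive.ofMul (vd (∏ j, d j ^ a j)) := fun a => by
    simp only [γ, map_prod, map_zpow, ofMul_prod, smul_neg, Finset.sum_neg_distrib, ← ofMul_zpow]
    rfl
  obtain ⟨r, hr⟩ := exists_int_signs γ (Finset.univ.image F.w ∪ Finset.univ.image fun j : Fin N => Pi.single j (1 : ℤ))
  have hrj : ∀ j, (0 < γ j → 0 < r j) ∧ (γ j < 0 → r j < 0) ∧ (γ j = 0 → r j = 0) := fun j => by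
    have h := hr (Pi.single j 1) (Finset.mem_union_right _ (Finset.mem_image_of_mem _ (Finset.mem_univ j)))
    rw [Finset.sum_eq_single j (fun l _ hl => by simp [hl]) (by simp),
      Finset.sum_eq_single j (fun l _ hl => by simp [hl]) (by simp)] at h
    simpa using h
  -- the reduction
  have hw : ∀ j, vO (Matrix.vecMul (fun a => algebraMap k O (w a)) U j) * δ j =
      ∑ l, (∑ a, algebraMap k K (w a) * mat M a l) * vO (W⁻¹ l j) := fun j => by
    have h1 : Matrix.vecMul (Matrix.vecMul (fun a => algebraMap k K (w a)) (mat M)) (W⁻¹.map vO) =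
        Matrix.vecMul (fun a => algebraMap k K (w a)) (U' * Matrix.diagonal δ) := by
      rw [Matrix.vecMul_vecMul]
      congr 1
      rw [hMeq', mul_assoc, ← Matrix.map_mul, Matrix.mul_nonsing_inv _ hW,
        Matrix.map_one _ (map_zero vO) (map_one vO), mul_one]
    have h2 := congrFun h1 j
    simp only [Matrix.vecMul, dotProduct, Matrix.mul_diagonal, Matrix.map_apply, U'] at h2
    rw [h2, Matrix.vecMul, dotProduct, map_sum, Finset.sum_mul]
    refine Finset.sum_congr rfl fun a _ => ?_
    rw [map_mul, mul_assoc]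
    simp [vO, ← IsScalarTower.algebraMap_apply]
  have hres : ∀ x : O, O.valuation (vO x) < 1 → res x = 0 := fun x hx =>
    (IsLocalRing.residue_eq_zero_iff x).2 ((ValuationSubring.valuation_lt_one_iff O x).2 hx)
  have hle : ∀ x : O, O.valuation (vO x) ≤ 1 := fun x => (O.valuation_le_one_iff _).2 x.2
  have hneg : ∀ (a : Fin N → ℤ), ∑ j, a j • γ j < 0 → 1 < O.valuation ((∏ j, d j ^ a j : Kˣ) : K) := fun a ha => by
    rw [hγ, neg_lt_zero, ← ofMul_one, Additive.ofMul_lt, ← Units.val_lt_val] at ha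
    exact ha
  let uκ := res.comp uO
  have hvec : ∀ j, res (Matrix.vecMul (fun a => algebraMap k O (w a)) U j) =
      ∑ a, algebraMap k κ (w a) * mat uκ a j := fun j => by
    simp only [Matrix.vecMul, dotProduct, map_sum, map_mul, AlgHom.commutes, uκ, mat, AlgHom.comp_apply]
    refine Finset.sum_congr rfl fun a _ => ?_
    simp [uO, ptU]
  have hcond1 : ∀ j, γ j < 0 → ∑ a, algebraMap k κ (w a) * mat uκ a j = 0 := fun j hj => by
    rw [← hvec]
    refine hres _ ?_
    have h1 : O.valuation (vO (Matrix.vecMul (fun a => algebraMap k O (w a)) U j) * δ j) ≤ 1 := by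
      rw [hw, O.valuation_le_one_iff]
      exact sum_mem fun l _ => mul_mem (hint l) (W⁻¹ l j).2
    have h2 : 1 < O.valuation (δ j) := by
      have := hneg (Pi.single j 1) (by
        rw [Finset.sum_eq_single j (fun l _ hl => by simp [hl]) (by simp)]
        simpa using hj)
      rw [Finset.prod_eq_single j (fun l _ hl => by simp [hl]) (by simp)] at this
      simpa [d] using this
    rw [map_mul] at h1
    by_contra h3
    exact absurd h1 (not_le.2 (h2.trans_le (le_mul_of_one_le_left zero_le (not_lt.1 h3))))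
  have hcond2 : (∀ j, O.valuation (∑ a, algebraMap k K (w a) * mat M a j) < 1) →
      ∀ j, γ j ≤ 0 → ∑ a, algebraMap k κ (w a) * mat uκ a j = 0 := fun hs j hj => by
    rw [← hvec]
    refine hres _ ?_
    have h1 : O.valuation (vO (Matrix.vecMul (fun a => algebraMap k O (w a)) U j) * δ j) < 1 := by
      rw [hw]
      refine Valuation.map_sum_lt _ one_ne_zero fun l _ => ?_
      rw [map_mul]
      exact (mul_le_of_le_one_right zero_le (hle _)).trans_lt (hs l)
    have h2 : 1 ≤ O.valuation (δ j) := by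
      rcases hj.lt_or_eq with h | h
      · have := hneg (Pi.single j 1) (by
          rw [Finset.sum_eq_single j (fun l _ hl => by simp [hl]) (by simp)]
          simpa using h)
        rw [Finset.prod_eq_single j (fun l _ hl => by simp [hl]) (by simp)] at this
        exact (by simpa [d] using this : 1 < O.valuation (δ j)).le
      · simp only [γ, neg_eq_zero, ofMul_eq_zero, ← Units.val_eq_one] at h
        exact (show O.valuation (δ j) = 1 from h).ge
    rw [map_mul] at h1
    exact lt_of_le_of_lt (le_mul_of_one_le_right zero_le h2) h1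
  have hcond3 : ∀ i, ∑ j, F.w i j • γ j < 0 → uκ (F.f i) = 0 := fun i hi => by
    show res (uO (F.f i)) = 0
    refine hres _ ?_
    have h1 : O.valuation (vO (uO (F.f i)) * ((∏ b, d b ^ F.w i b : Kˣ) : K)) ≤ 1 := by rw [hf]; exact hle _
    rw [map_mul] at h1
    by_contra h3
    exact absurd h1 (not_le.2 ((hneg _ hi).trans_le (le_mul_of_one_le_left zero_le (not_lt.1 h3))))
  -- descent to the ground field
  obtain ⟨P, hP⟩ := HopfLib.exists_algHom_le_ker (k := k) (RingHom.ker_ne_top uκ)
  have hPv : ∀ j, ∑ a, algebraMap k κ (w a) * mat uκ a j = 0 → Matrix.vecMul w (mat P) j = 0 := fun j hj => by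
    have h1 : uκ (∑ a, algebraMap k (GLn N k) (w a) * GLn.X a j) = 0 := by
      rw [← hj, map_sum]
      simp [mat]
    have h2 := RingHom.mem_ker.1 (hP (RingHom.mem_ker.2 h1))
    rw [map_sum] at h2
    refine Eq.trans ?_ h2
    simp [Matrix.vecMul, dotProduct, mat]
  refine ⟨r, P, fun j hj => hPv j (hcond1 j ?_), fun hs j hj => hPv j (hcond2 hs j ?_),
    fun i hi => RingHom.mem_ker.1 (hP (RingHom.mem_ker.2 (hcond3 i ?_))), fun x hx hr0 => hx ?_⟩
  · rcases lt_trichotomy (γ j) 0 with h | h | h
    · exact h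
    · have := (hrj j).2.2 h; omega
    · have := (hrj j).1 h; omega
  · rcases lt_trichotomy (γ j) 0 with h | h | h
    · exact h.le
    · exact h.le
    · have := (hrj j).1 h; omega
  · have hS := hr (F.w i) (Finset.mem_union_left _ (Finset.mem_image_of_mem _ (Finset.mem_univ i)))
    rw [Frame.wt] at hi
    rcases lt_trichotomy (∑ j, F.w i j • γ j) 0 with h | h | h
    · exact h
    · have := hS.2.2 h; omega
    · have := hS.1 h; omega
  · have hd0 : ∀ j, O.valuation (δ j) = 1 := fun j => by
      have h1 : γ j = 0 := by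
        rcases lt_trichotomy (γ j) 0 with h | h | h
        · have := (hrj j).2.1 h; simp [hr0] at this
        · exact h
        · have := (hrj j).1 h; simp [hr0] at this
      simp only [γ, neg_eq_zero, ofMul_eq_zero, ← Units.val_eq_one] at h1
      exact h1
    let δO : Fin N → O := fun j => ⟨δ j, (O.valuation_le_one_iff _).1 (hd0 j).le⟩
    have hu : IsUnit (U * Matrix.diagonal δO * W).det := by
      rw [Matrix.det_mul, Matrix.det_mul, Matrix.det_diagonal]
      exact (hU.mul (IsUnit.prod_iff.2 fun j _ => (O.valuation_eq_one_iff _).2 (hd0 j))).mul hW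
    have hMO : M = vO.comp (ptU (k := k) _ hu) := pt_ext (by
      rw [mat_comp, mat_ptU, Matrix.map_mul, Matrix.map_mul, Matrix.diagonal_map (map_zero vO), hMeq']
      rfl)
    rw [hMO]
    exact ((ptU (k := k) _ hu) x).2

end Groth.Agent.HM8
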