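import Groth.Agent.HM8.Frame
import Mathlib.Algebra.MvPolynomial.PDeriv
import Mathlib.RingTheory.Smooth.Field
import Mathlib.RingTheory.Localization.Integer
import Mathlib.RingTheory.Localization.FractionRing
import Mathlib.LinearAlgebra.Matrix.ToLin
import Mathlib.FieldTheory.Perfect
import Mathlib.Algebra.Polynomial.Laurent

/-!
# Tangent vectors of an orbit of `GL_N` in characteristic zero
-/

set_option autoImplicit false
set_option backward.isDefEq.respectTransparency false
set_option backward.isDefEq.respectTransparency.types false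

universe u v w

noncomputable section

open CoordGrp TensorProduct TrivSqZeroExt MvPolynomial
open CoalgebraStruct (comul counit)
open scoped DualNumber LaurentPolynomial

namespace Groth.Agent.HM8

variable {k : Type u} [Field k] {N : ℕ} {B : Type v} [CommRing B] [Algebra k B]

/-- The first projection. -/
def fstA : B[ε] →ₐ[k] B := (TrivSqZeroExt.fstHom B B B).restrictScalars k

theorem fstA_apply (x : B[ε]) : fstA (k := k) x = x.fst := rfl

/-- The constant inclusion. -/
def inlA : B →ₐ[k] B[ε] := (TrivSqZeroExt.inlAlgHom B B B).restrictScalars k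

theorem inlA_apply (x : B) : inlA (k := k) x = inl x := rfl

/-- The matrix of a tangent vector. -/
def tMat (φ : GLn N k →ₐ[k] B) (ξ : Matrix (Fin N) (Fin N) B) : Matrix (Fin N) (Fin N) B[ε] :=
  fun a b => inl (mat φ a b) + inr ((mat φ * ξ) a b)

theorem isUnit_det_tMat (φ : GLn N k →ₐ[k] B) (ξ : Matrix (Fin N) (Fin N) B) : IsUnit (tMat φ ξ).det := by
  rw [TrivSqZeroExt.isUnit_iff_isUnit_fst]
  show IsUnit (fstA (k := k) (tMat φ ξ).det)
  rw [AlgHom.map_det]
  convert isUnit_det_mat φ using 2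
  funext a b
  simp [tMat, fstA_apply]

/-- The tangent point `φ (1 + ε ξ)`. -/
def tangent (φ : GLn N k →ₐ[k] B) (ξ : Matrix (Fin N) (Fin N) B) : GLn N k →ₐ[k] B[ε] :=
  ptU (tMat φ ξ) (isUnit_det_tMat φ ξ)

theorem mat_tangent (φ : GLn N k →ₐ[k] B) (ξ : Matrix (Fin N) (Fin N) B) : mat (tangent φ ξ) = tMat φ ξ :=
  mat_ptU _ _

theorem fst_tangent (φ : GLn N k →ₐ[k] B) (ξ : Matrix (Fin N) (Fin N) B) (f : GLn N k) :
    (tangent φ ξ f).fst = φ f := by
  refine AlgHom.congr_fun (pt_ext (φ := fstA.comp (tangent φ ξ)) (ψ := φ) ?_) f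
  rw [mat_comp, mat_tangent]
  funext a b
  simp [tMat, fstA_apply]

/-- The invariant derivations. -/
def δ (a b : Fin N) : GLn N k →ₗ[k] GLn N k :=
  ((TrivSqZeroExt.sndHom (GLn N k) (GLn N k)).restrictScalars k).comp
    (tangent (AlgHom.id k (GLn N k)) (Matrix.single a b 1)).toLinearMap

theorem δ_apply (a b : Fin N) (f : GLn N k) :
    δ a b f = (tangent (AlgHom.id k (GLn N k)) (Matrix.single a b 1) f).snd := rfl

theorem δ_mul (a b : Fin N) (f g : GLn N k) : δ a b (f * g) = f * δ a b g + g * δ a b f := by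
  simp only [δ_apply, map_mul, snd_mul, fst_tangent, AlgHom.coe_id, id, smul_eq_mul, MulOpposite.smul_eq_mul_unop,
    MulOpposite.unop_op]
  ring

theorem δ_algebraMap (a b : Fin N) (c : k) : δ a b (algebraMap k (GLn N k) c) = 0 := by
  rw [δ_apply, AlgHom.commutes, IsScalarTower.algebraMap_apply k (GLn N k) (GLn N k)[ε]]
  rfl

theorem δ_X (a b i j : Fin N) : δ a b (GLn.X i j : GLn N k) = if j = b then GLn.X i a else 0 := by
  rw [δ_apply]
  have := congrFun (congrFun (mat_tangent (AlgHom.id k (GLn N k)) (Matrix.single a b 1)) i) j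
  rw [show tangent (AlgHom.id k (GLn N k)) (Matrix.single a b 1) (GLn.X i j) = _ from this]
  simp [tMat, mat, Matrix.mul_apply, Matrix.single_apply, ite_and, eq_comm]
  split_ifs <;> simp

/-- The derivative along a tangent vector. -/
def L (φ : GLn N k →ₐ[k] B) (ξ : Matrix (Fin N) (Fin N) B) (f : GLn N k) : B :=
  ∑ a, ∑ b, ξ a b * φ (δ a b f)

theorem tangent_apply (φ : GLn N k →ₐ[k] B) (ξ : Matrix (Fin N) (Fin N) B) (f : GLn N k) :
    tangent φ ξ f = inl (φ f) + inr (L φ ξ f) := by
  let g : GLn N k →ₐ[k] B[ε] :=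
    { toFun := fun f => inl (φ f) + inr (L φ ξ f)
      map_one' := by
        have h : ∀ a b : Fin N, δ a b (1 : GLn N k) = 0 := fun a b => by
          simpa using δ_algebraMap (k := k) a b 1
        simp [L, h]
      map_zero' := by simp [L]
      map_add' := fun x y => by
        simp only [L, map_add, mul_add, Finset.sum_add_distrib, inl_add, inr_add]
        abel
      map_mul' := fun x y => by
        have hL : L φ ξ (x * y) = φ x * L φ ξ y + φ y * L φ ξ x := by
          simp only [L, δ_mul, map_add, map_mul, Finset.mul_sum, ← Finset.sum_add_distrib]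
          exact Finset.sum_congr rfl fun a _ => Finset.sum_congr rfl fun b _ => by ring
        refine TrivSqZeroExt.ext ?_ ?_
        · simp
        · simp [hL, mul_comm]
      commutes' := fun c => by
        simp [L, δ_algebraMap, IsScalarTower.algebraMap_apply k B B[ε]]
        rfl }
  refine AlgHom.congr_fun (pt_ext (φ := tangent φ ξ) (ψ := g) ?_) f
  rw [mat_tangent]
  funext i j
  show tMat φ ξ i j = inl (φ (GLn.X i j)) + inr (L φ ξ (GLn.X i j))
  simp [tMat, mat, L, δ_X, Matrix.mul_apply, mul_comm, apply_ite φ]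

theorem snd_tangent (φ : GLn N k →ₐ[k] B) (ξ : Matrix (Fin N) (Fin N) B) (f : GLn N k) :
    (tangent φ ξ f).snd = L φ ξ f := by
  rw [tangent_apply]; simp

theorem L_onePt_expand {f : GLn N k} {ι : Type*} [Fintype ι] {g c : ι → GLn N k}
    (hf : comul (R := k) f = ∑ l, g l ⊗ₜ[k] c l) (φ : GLn N k →ₐ[k] B) (ξ : Matrix (Fin N) (Fin N) B) :
    L φ ξ f = ∑ l, φ (g l) * L (onePt (k := k) (B := B)) ξ (c l) := by
  rw [← snd_tangent, apply_eq_of_mul (φ := (inlA).comp φ) (ψ := tangent onePt ξ) ?_ hf]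
  · simp [snd_sum, inlA_apply, snd_tangent]
  · rw [mat_comp, mat_tangent, mat_tangent]
    funext a b
    refine TrivSqZeroExt.ext ?_ ?_
    · simp [tMat, mat_onePt, Matrix.mul_apply, fst_sum, inlA_apply, Matrix.one_apply]
    · simp [tMat, mat_onePt, Matrix.mul_apply, snd_sum, inlA_apply, Matrix.one_apply]

/-- Value of a polynomial at a tangent vector. -/
def dval {r : ℕ} (a z : Fin r → B) : MvPolynomial (Fin r) k →ₐ[k] B[ε] :=
  MvPolynomial.aeval fun i => inl (a i) + inr (z i)

theorem dval_apply {r : ℕ} (a z : Fin r → B) (F : MvPolynomial (Fin r) k) :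
    dval a z F = inl (MvPolynomial.aeval a F) + inr (∑ i, MvPolynomial.aeval a (MvPolynomial.pderiv i F) * z i) := by
  induction F using MvPolynomial.induction_on with
  | C c =>
    rw [show (C c : MvPolynomial (Fin r) k) = algebraMap k _ c from rfl, AlgHom.commutes, AlgHom.commutes]
    simp [IsScalarTower.algebraMap_apply k B B[ε]]
    rfl
  | add p q hp hq =>
    simp only [map_add, hp, hq, add_mul, Finset.sum_add_distrib, inl_add, inr_add]
    abel
  | mul_X p n hp =>
    rw [map_mul, hp, dval, MvPolynomial.aeval_X]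
    refine TrivSqZeroExt.ext (by simp) ?_
    simp [MvPolynomial.pderiv_mul, MvPolynomial.pderiv_X, Pi.single_apply, add_mul, Finset.sum_add_distrib,
      apply_ite (MvPolynomial.aeval a), Finset.sum_mul]
    exact Finset.sum_congr rfl fun i _ => by ring

variable {A : Type u} [CommRing A] [HopfAlgebra k A] {π : GLn N k →ₐc[k] A} (F : Frame π)

/-- The equations of the orbit. -/
def Frame.J : Ideal (MvPolynomial (Fin F.r) k) :=
  RingHom.ker (MvPolynomial.aeval F.f : MvPolynomial (Fin F.r) k →ₐ[k] GLn N k)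

/-- Tangent vectors to the equations. -/
def Frame.IsTan (φ : GLn N k →ₐ[k] k) (z : Fin F.r → k) : Prop :=
  ∀ G ∈ F.J, dval (fun i => φ (F.f i)) z G = 0

variable [CharZero k] [IsAlgClosed k]

theorem Frame.exists_good_point :
    ∃ φ₀ : GLn N k →ₐ[k] k, ∀ z, F.IsTan φ₀ z → ∃ ξ, ∀ i, L φ₀ ξ (F.f i) = z i := by
  classical
  let K := FractionRing (GLn N k)
  let ι : GLn N k →ₐ[k] K := IsScalarTower.toAlgHom k (GLn N k) K
  have hι : Function.Injective ι := IsFractionRing.injective (GLn N k) K
  obtain ⟨s, hs⟩ := IsNoetherian.noetherian F.J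
  let Jm : Matrix s (Fin F.r) (GLn N k) := fun q i => MvPolynomial.aeval F.f (MvPolynomial.pderiv i q.1)
  let Lm : Matrix (Fin F.r) (Fin N × Fin N) (GLn N k) := fun i p => δ p.1 p.2 (F.f i)
  let JK := Matrix.mulVecLin (Jm.map ι)
  let LK := Matrix.mulVecLin (Lm.map ι)
  have key : LinearMap.ker JK ≤ LinearMap.range LK := by
    intro z hz
    let ψ : MvPolynomial (Fin F.r) k →ₐ[k] K[ε] := dval (fun i => ι (F.f i)) z
    have hfst : ∀ G, (ψ G).fst = ι (MvPolynomial.aeval F.f G) := fun G => by
      simp only [ψ, dval_apply, fst_add, fst_inl, fst_inr, add_zero]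
      rw [← AlgHom.comp_apply, MvPolynomial.comp_aeval]
    have hJ : F.J ≤ RingHom.ker ψ := by
      rw [← hs, Submodule.span_le]
      intro G hG
      have h0 : MvPolynomial.aeval F.f G = 0 :=
        RingHom.mem_ker.1 (show G ∈ F.J from hs ▸ Submodule.subset_span hG)
      refine RingHom.mem_ker.2 (TrivSqZeroExt.ext (by rw [hfst, h0, map_zero, fst_zero]) ?_)
      have h1 := congrFun (LinearMap.mem_ker.1 hz) ⟨G, hG⟩
      simp only [ψ, dval_apply, snd_add, snd_inl, snd_inr, zero_add, snd_zero]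
      refine Eq.trans (Finset.sum_congr rfl fun i _ => ?_) h1
      refine congrArg (· * z i) ?_
      show _ = ι (MvPolynomial.aeval F.f (MvPolynomial.pderiv i G))
      rw [← AlgHom.comp_apply ι, MvPolynomial.comp_aeval]
    have : (F.J).IsPrime := RingHom.ker_isPrime _
    let P := MvPolynomial (Fin F.r) k ⧸ F.J
    let θ : P →ₐ[k] K := Ideal.Quotient.liftₐ F.J (ι.comp (MvPolynomial.aeval F.f)) fun a ha => by
      rw [AlgHom.comp_apply, show MvPolynomial.aeval F.f a = 0 from ha, map_zero]
    have hθ : Function.Injective θ := (injective_iff_map_eq_zero θ).2 fun x hx => by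
      obtain ⟨G, rfl⟩ := Ideal.Quotient.mk_surjective x
      refine Ideal.Quotient.eq_zero_iff_mem.2 (RingHom.mem_ker.2 (hι ?_))
      rw [map_zero]
      exact hx
    let ψP : P →ₐ[k] K[ε] := Ideal.Quotient.liftₐ F.J ψ fun a ha => hJ ha
    let F0 := FractionRing P
    have hunit : ∀ y : nonZeroDivisors P, IsUnit (ψP y) := fun ⟨y, hy⟩ => by
      obtain ⟨G, rfl⟩ := Ideal.Quotient.mk_surjective y
      rw [TrivSqZeroExt.isUnit_iff_isUnit_fst, isUnit_iff_ne_zero]
      show (ψ G).fst ≠ 0
      rw [hfst]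
      intro h
      exact nonZeroDivisors.ne_zero hy (hθ (show θ (Ideal.Quotient.mk F.J G) = θ 0 by rw [map_zero]; exact h))
    let ψ0 : F0 →ₐ[k] K[ε] := IsLocalization.liftAlgHom (M := nonZeroDivisors P) (f := ψP) hunit
    let θ0 : F0 →ₐ[k] K := fstA.comp ψ0
    letI : Algebra F0 K := θ0.toRingHom.toAlgebra
    letI : Algebra F0 K[ε] := ψ0.toRingHom.toAlgebra
    haveI : IsScalarTower k F0 K := IsScalarTower.of_algebraMap_eq fun c => (θ0.commutes c).symm
    haveI : CharZero F0 := charZero_of_injective_algebraMap (R := k) (algebraMap k F0).injective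
    haveI : Algebra.EssFiniteType (GLn N k) K := Algebra.EssFiniteType.of_isLocalization K (nonZeroDivisors (GLn N k))
    haveI : Algebra.EssFiniteType k K := Algebra.EssFiniteType.comp k (GLn N k) K
    haveI : Algebra.EssFiniteType F0 K := Algebra.EssFiniteType.of_comp k F0 K
    haveI : PerfectField F0 := PerfectField.ofCharZero
    let g : K[ε] →ₐ[F0] K :=
      { (fstA (k := k) : K[ε] →ₐ[k] K).toRingHom with commutes' := fun _ => rfl }
    have hg : Function.Surjective g := fun x => ⟨inl x, rfl⟩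
    have hg' : IsNilpotent (RingHom.ker (g : K[ε] →+* K)) := by
      refine ⟨2, ?_⟩
      rw [Submodule.pow_succ, Submodule.pow_one]
      refine le_bot_iff.1 (Ideal.mul_le.2 ?_)
      intro x hx y hy
      have hx' : x.fst = 0 := hx
      have hy' : y.fst = 0 := hy
      exact TrivSqZeroExt.ext (by simp [hx', hy']) (by simp [hx', hy'])
    let l := Algebra.FormallySmooth.liftOfSurjective (AlgHom.id F0 K) g hg hg'
    let φ : GLn N k →ₐ[k] K[ε] :=
      { (l : K →+* K[ε]).comp ι.toRingHom with
        commutes' := fun c => by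
          show l (ι (algebraMap k _ c)) = _
          rw [AlgHom.commutes, IsScalarTower.algebraMap_apply k F0 K, AlgHom.commutes]
          exact ψ0.commutes c }
    have hφfst : ∀ f, (φ f).fst = ι f := fun f =>
      Algebra.FormallySmooth.liftOfSurjective_apply (AlgHom.id F0 K) g hg hg' (ι f)
    let ξ : Matrix (Fin N) (Fin N) K := (mat ι)⁻¹ * Matrix.of (fun a b => (φ (GLn.X a b)).snd)
    have hφ : φ = tangent ι ξ := pt_ext (by
      rw [mat_tangent]
      funext a b
      simp only [tMat, ξ]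
      rw [← Matrix.mul_assoc, Matrix.mul_nonsing_inv _ (isUnit_det_mat ι), Matrix.one_mul]
      exact TrivSqZeroExt.ext (by simp [mat, hφfst]) (by simp [mat]))
    refine ⟨fun p => ξ p.1 p.2, funext fun i => ?_⟩
    have h1 : (φ (F.f i)).snd = z i := by
      have h2 : ι (F.f i) = algebraMap F0 K (algebraMap P F0 (Ideal.Quotient.mk F.J (MvPolynomial.X i))) := by
        show ι (F.f i) = (ψ0 (algebraMap P F0 _)).fst
        rw [IsLocalization.liftAlgHom_apply, IsLocalization.lift_eq]
        show ι (F.f i) = (ψ (MvPolynomial.X i)).fst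
        rw [hfst, MvPolynomial.aeval_X]
      show (l (ι (F.f i))).snd = z i
      rw [h2, AlgHom.commutes]
      show (ψ0 (algebraMap P F0 _)).snd = z i
      rw [IsLocalization.liftAlgHom_apply, IsLocalization.lift_eq]
      show (ψ (MvPolynomial.X i)).snd = z i
      simp [ψ, dval]
    rw [← h1, hφ, snd_tangent]
    simp [LK, Lm, L, Matrix.mulVec, dotProduct, Fintype.sum_prod_type, mul_comm]
  obtain ⟨g0, hg0⟩ := JK.rangeRestrict.exists_rightInverse_of_surjective JK.range_rangeRestrict
  obtain ⟨T, hT⟩ := LinearMap.exists_extend g0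
  obtain ⟨S0, hS0⟩ := LK.rangeRestrict.exists_rightInverse_of_surjective LK.range_rangeRestrict
  have hJTJ : ∀ z, JK (T (JK z)) = JK z := fun z => by
    have h1 : T (JK z) = g0 (JK.rangeRestrict z) := LinearMap.congr_fun hT (JK.rangeRestrict z)
    rw [h1]
    exact congrArg Subtype.val (LinearMap.congr_fun hg0 (JK.rangeRestrict z))
  let q : (Fin F.r → K) →ₗ[K] (Fin F.r → K) := LinearMap.id - T ∘ₗ JK
  have hq : ∀ z, q z ∈ LinearMap.range LK := fun z => key (by simp [q, hJTJ])
  let S : (Fin F.r → K) →ₗ[K] (Fin N × Fin N → K) := S0 ∘ₗ q.codRestrict _ hq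
  have hsplit : Lm.map ι * LinearMap.toMatrix' S + LinearMap.toMatrix' T * Jm.map ι = 1 := by
    have hcomp : LK ∘ₗ S + T ∘ₗ JK = LinearMap.id := by
      refine LinearMap.ext fun z => ?_
      have h1 : LK (S z) = q z := congrArg Subtype.val (LinearMap.congr_fun hS0 (q.codRestrict _ hq z))
      simp [h1, q]
    have h2 := congrArg LinearMap.toMatrix' hcomp
    simpa [LinearMap.toMatrix'_comp, LK, JK, ← Matrix.toLin'_apply'] using h2
  let fam : (Fin N × Fin N) × Fin F.r ⊕ Fin F.r × s → K :=
    Sum.elim (fun p => LinearMap.toMatrix' S p.1 p.2) (fun p => LinearMap.toMatrix' T p.1 p.2)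
  obtain ⟨⟨d, hd⟩, hint⟩ := IsLocalization.exist_integer_multiples_of_finite (nonZeroDivisors (GLn N k)) fam
  choose num hnum using hint
  obtain ⟨φ₀, hφ₀⟩ := HopfLib.exists_algHom_ne_zero (k := k) (f := d) fun hn => nonZeroDivisors.ne_zero hd hn.eq_zero
  let S' : Matrix (Fin N × Fin N) (Fin F.r) (GLn N k) := fun p i => num (Sum.inl (p, i))
  let T' : Matrix (Fin F.r) s (GLn N k) := fun i q => num (Sum.inr (i, q))
  have hint' : Lm * S' + T' * Jm = d • (1 : Matrix (Fin F.r) (Fin F.r) (GLn N k)) := by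
    apply Matrix.map_injective hι
    have hS' : S'.map ι = ι d • LinearMap.toMatrix' S := Matrix.ext fun p i => by
      simpa [S', fam, ι, Algebra.smul_def] using hnum (Sum.inl (p, i))
    have hT' : T'.map ι = ι d • LinearMap.toMatrix' T := Matrix.ext fun i q => by
      simpa [T', fam, ι, Algebra.smul_def] using hnum (Sum.inr (i, q))
    show (Lm * S' + T' * Jm).map ι = (d • (1 : Matrix (Fin F.r) (Fin F.r) (GLn N k))).map ι
    rw [Matrix.map_add _ (map_add ι), Matrix.map_mul, Matrix.map_mul, hS', hT', Matrix.mul_smul, Matrix.smul_mul,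
      ← smul_add, hsplit]
    ext i j
    by_cases h : i = j <;> simp [h]
  refine ⟨φ₀, fun z hz => ⟨fun a b => (φ₀ d)⁻¹ * (S'.map φ₀).mulVec z (a, b), fun i => ?_⟩⟩
  have hJ0 : (Jm.map φ₀).mulVec z = 0 := by
    funext q
    have h1 := congrArg TrivSqZeroExt.snd (hz q.1 (hs ▸ Submodule.subset_span q.2))
    simp only [dval_apply, snd_add, snd_inl, snd_inr, zero_add, snd_zero] at h1
    refine Eq.trans ?_ h1
    simp only [Matrix.mulVec, dotProduct, Matrix.map_apply, Jm]
    refine Finset.sum_congr rfl fun j _ => ?_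
    rw [← AlgHom.comp_apply φ₀, MvPolynomial.comp_aeval]
  have h2 := congrArg (fun M : Matrix (Fin F.r) (Fin F.r) (GLn N k) => ((M.map φ₀).mulVec z) i) hint'
  simp only [Matrix.map_add _ (map_add φ₀), Matrix.map_mul, Matrix.add_mulVec, ← Matrix.mulVec_mulVec, hJ0,
    Matrix.mulVec_zero, add_zero] at h2
  have h3 : ((d • (1 : Matrix (Fin F.r) (Fin F.r) (GLn N k))).map φ₀).mulVec z i = φ₀ d * z i := by
    simp [Matrix.mulVec, dotProduct, Matrix.one_apply, apply_ite φ₀]
  rw [h3] at h2
  calc L φ₀ (fun a b => (φ₀ d)⁻¹ * (S'.map φ₀).mulVec z (a, b)) (F.f i)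
      = (φ₀ d)⁻¹ * ((Lm.map φ₀).mulVec ((S'.map φ₀).mulVec z)) i := by
        simp only [L, Lm, Matrix.mulVec, dotProduct, Matrix.map_apply, Fintype.sum_prod_type, Finset.mul_sum]
        refine Finset.sum_congr rfl fun a _ => Finset.sum_congr rfl fun b _ => ?_
        rw [Finset.sum_mul]
        exact Finset.sum_congr rfl fun j _ => by ring
    _ = z i := by rw [h2, inv_mul_cancel_left₀ hφ₀]

theorem Frame.coeff_eq {g : Fin F.r → k} {i : Fin F.r}
    (h : ∀ θ : GLn N k →ₐ[k] k, θ (F.f i) = ∑ l, g l * θ (F.f l)) (l : Fin F.r) :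
    g l = if l = i then 1 else 0 := by
  classical
  have h0 : ∑ l, (g l - if l = i then 1 else 0) • F.f l = 0 := eq_zero_of_points fun θ => by
    simp [sub_mul, Finset.sum_sub_distrib, ← h θ]
  exact sub_eq_zero.1 (Fintype.linearIndependent_iff.1 F.indep _ h0 l)

/-- Tangent vectors come from the group. -/
theorem Frame.exists_L_eq (H : GLn N k →ₐ[k] k) {z : Fin F.r → k} (hz : F.IsTan H z) :
    ∃ ξ, ∀ i, L H ξ (F.f i) = z i := by
  classical
  obtain ⟨φ₀, hφ₀⟩ := F.exists_good_point
  let h := conv (ptInv H) φ₀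
  have hH : mat H * mat h = mat φ₀ := by rw [mat_conv, ← mul_assoc, mat_ptInv, one_mul]
  let Tz : Fin F.r → k := fun i => ∑ l, z l * h (F.c i l)
  have hTz : F.IsTan φ₀ Tz := by
    intro G hG
    let σ : MvPolynomial (Fin F.r) k →ₐ[k] MvPolynomial (Fin F.r) k :=
      MvPolynomial.bind₁ fun i => ∑ l, MvPolynomial.C (h (F.c i l)) * MvPolynomial.X l
    have hGσ : σ G ∈ F.J := by
      refine RingHom.mem_ker.2 ?_
      have he : (MvPolynomial.aeval F.f).comp σ = (rTrans h).comp (MvPolynomial.aeval F.f) :=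
        MvPolynomial.algHom_ext fun i => by
          simp [σ, rid_rTrans h (F.comul_f i), Algebra.smul_def]
      exact (AlgHom.congr_fun he G).trans (by rw [AlgHom.comp_apply, RingHom.mem_ker.1 hG, map_zero])
    have he2 : (dval (fun i => H (F.f i)) z).comp σ = dval (fun i => φ₀ (F.f i)) Tz :=
      MvPolynomial.algHom_ext fun i => by
        simp only [σ, dval, AlgHom.comp_apply, MvPolynomial.bind₁_X_right, map_sum, map_mul, MvPolynomial.aeval_X,
          MvPolynomial.aeval_C]
        refine TrivSqZeroExt.ext ?_ ?_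
        · simp [fst_sum, apply_eq_of_mul hH (F.comul_f i), TrivSqZeroExt.algebraMap_eq_inl, mul_comm]
        · simp [Tz, snd_sum, TrivSqZeroExt.algebraMap_eq_inl, mul_comm]
    rw [← he2]
    exact hz _ hGσ
  obtain ⟨ξ₀, hξ₀⟩ := hφ₀ Tz hTz
  let hi := ptInv h
  refine ⟨mat h * ξ₀ * mat hi, fun i => ?_⟩
  have hδ : ∀ m, ∑ l, hi (F.c i l) * h (F.c l m) = if m = i then 1 else 0 := fun m =>
    F.coeff_eq (g := fun m => ∑ l, hi (F.c i l) * h (F.c l m)) (fun θ => by
      rw [apply_eq_of_mul (φ := conv θ h) (ψ := hi) (θ := θ)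
        (by rw [mat_conv, mul_assoc, mat_ptInv, mul_one]) (F.comul_f i)]
      simp only [conv_apply (F.comul_f _), Finset.sum_mul]
      rw [Finset.sum_comm]
      exact Finset.sum_congr rfl fun m _ => Finset.sum_congr rfl fun l _ => by ring) m
  have hM : mat (tangent φ₀ ξ₀) * mat ((inlA).comp hi) = mat (tangent H (mat h * ξ₀ * mat hi)) := by
    have e : mat φ₀ * ξ₀ * mat hi = mat H * (mat h * ξ₀ * mat hi) := by
      rw [← hH]; simp only [mul_assoc]
    have e2 : mat φ₀ * mat hi = mat H := by rw [← hH, mul_assoc, mat_ptInv, mul_one]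
    rw [mat_tangent, mat_tangent, mat_comp]
    funext a b
    refine TrivSqZeroExt.ext ?_ ?_
    · simpa [tMat, Matrix.mul_apply, fst_sum, inlA_apply] using congrFun (congrFun e2 a) b
    · have := congrFun (congrFun e a) b
      simp only [tMat, snd_add, snd_inl, snd_inr, zero_add]
      rw [← this]
      simp [tMat, Matrix.mul_apply, snd_sum, inlA_apply]
  rw [← snd_tangent, apply_eq_of_mul hM (F.comul_f i)]
  simp only [snd_sum, snd_mul, AlgHom.comp_apply, inlA_apply, snd_tangent, snd_inl, fst_inl, smul_zero, zero_add,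
    MulOpposite.smul_eq_mul_unop, MulOpposite.unop_op, hξ₀, Tz, Finset.sum_mul]
  rw [Finset.sum_comm]
  conv_rhs => rw [← Fintype.sum_ite_eq' i z]
  refine Finset.sum_congr rfl fun m _ => ?_
  have h4 := congrArg (fun x => z m * x) (hδ m)
  simp only [Finset.mul_sum, mul_ite, mul_one, mul_zero] at h4
  rw [← h4]
  exact Finset.sum_congr rfl fun l _ => by ring

/-- The weight of an index along a diagonal subgroup. -/
def Frame.wt (r : Fin N → ℤ) (i : Fin F.r) : ℤ := ∑ b, F.w i b * r b

omit [IsAlgClosed k] in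
theorem Frame.L_weight (H : GLn N k →ₐ[k] k) (r : Fin N → ℤ) (hfix : ∀ l, F.wt r l ≠ 0 → H (F.f l) = 0)
    (ξ : Matrix (Fin N) (Fin N) k) (i : Fin F.r) :
    L H ξ (F.f i) = L H (fun a b => if r b - r a = F.wt r i then ξ a b else 0) (F.f i) := by
  classical
  have hzero : ∀ a b, r b - r a ≠ F.wt r i → H (δ a b (F.f i)) = 0 := by
    intro a b hab
    let two : kˣ := Units.mk0 2 two_ne_zero
    let d : Fin N → kˣ := fun l => two ^ r l
    have hprod : ∀ l, (∏ b, d b ^ F.w l b : kˣ) = two ^ F.wt r l := fun l => by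
      have hsum : ∀ (t : Finset (Fin N)) (e : Fin N → ℤ), ∏ b ∈ t, two ^ e b = two ^ ∑ b ∈ t, e b := by
        intro t e
        induction t using Finset.induction_on with
        | empty => simp
        | insert x t hx ih => rw [Finset.prod_insert hx, Finset.sum_insert hx, ih, zpow_add]
      simp [d, Frame.wt, ← zpow_mul, hsum, mul_comm]
    have hD : IsUnit (mat H * Matrix.diagonal fun b => (d b : k)).det := by
      rw [Matrix.det_mul, Matrix.det_diagonal]
      exact (isUnit_det_mat H).mul (IsUnit.prod_iff.2 fun b _ => Units.isUnit _)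
    let Hd := ptU (k := k) _ hD
    have hHd : ∀ l, Hd (F.f l) = H (F.f l) := fun l => by
      rw [apply_mul_diag (F.weight l) H Hd d (mat_ptU _ _), hprod]
      by_cases h : F.wt r l = 0
      · simp [h]
      · simp [hfix l h]
    let s : k := ((d b : kˣ) : k) * ((d a)⁻¹ : kˣ)
    let dd : Fin N → (k[ε])ˣ := fun l => Units.map (inlA (k := k) (B := k)).toMonoidHom (d l)
    have hmat : mat (tangent Hd (s • Matrix.single a b 1)) =
        mat (tangent H (Matrix.single a b 1)) * Matrix.diagonal fun l => (dd l : k[ε]) := by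
      rw [mat_tangent, mat_tangent]
      funext i j
      simp [tMat, Matrix.mul_diagonal, dd, inlA_apply, Hd, mat_ptU]
      refine TrivSqZeroExt.ext (by simp) ?_
      by_cases hj : b = j
      · subst hj
        simp [Matrix.mul_apply, Matrix.single_apply, Matrix.diagonal_apply, s, ite_and]
        field_simp
      · simp [Matrix.mul_apply, Matrix.single_apply, hj]
    have hL2 := apply_mul_diag (F.weight i) (tangent H (Matrix.single a b 1)) _ dd hmat
    have h2 := congrArg TrivSqZeroExt.snd hL2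
    rw [snd_tangent, snd_mul, snd_tangent] at h2
    have hpd : ((∏ l, dd l ^ F.w i l : (k[ε])ˣ) : k[ε]) = inl ((two ^ F.wt r i : kˣ) : k) := by
      rw [← hprod, ← inlA_apply (k := k)]
      simp only [dd, ← map_zpow, ← map_prod]
      rfl
    rw [hpd, fst_inl, snd_inl, smul_zero, zero_add, MulOpposite.smul_eq_mul_unop, MulOpposite.unop_op] at h2
    have hLl : ∀ φ : GLn N k →ₐ[k] k, ∀ c : k, L φ (c • Matrix.single a b 1) (F.f i) = c * φ (δ a b (F.f i)) := fun φ c => by
      simp [L, Matrix.single_apply, ite_and]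
    have hHdE : L Hd (s • Matrix.single a b 1) (F.f i) = s * L H (Matrix.single a b 1) (F.f i) := by
      rw [L_onePt_expand (F.comul_f i) Hd, L_onePt_expand (F.comul_f i) H, Finset.mul_sum]
      refine Finset.sum_congr rfl fun l _ => ?_
      rw [hHd]
      simp [L, Matrix.single_apply, ite_and]
      ring
    rw [hHdE, ← one_smul k (Matrix.single a b (1 : k)), hLl, one_mul] at h2
    have hs : s = ((two ^ (r b - r a) : kˣ) : k) := by
      simp [s, d, zpow_sub]
    have h5 : (((two ^ (r b - r a) : kˣ) : k) - ((two ^ F.wt r i : kˣ) : k)) * H (δ a b (F.f i)) = 0 := by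
      rw [sub_mul, ← hs, h2]; ring
    refine (mul_eq_zero.1 h5).resolve_left fun h6 => hab ?_
    rw [sub_eq_zero, Units.val_zpow_eq_zpow_val, Units.val_zpow_eq_zpow_val] at h6
    have h7 : ((2 : ℚ) ^ (r b - r a) : ℚ) = (2 : ℚ) ^ F.wt r i := by
      apply (Rat.castHom k).injective
      simpa [two] using h6
    exact zpow_right_injective₀ (by norm_num) (by norm_num) h7
  simp only [L]
  refine Finset.sum_congr rfl fun a _ => Finset.sum_congr rfl fun b _ => ?_
  split_ifs with h
  · rfl
  · rw [hzero a b h, mul_zero, zero_mul]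

/-- The first nonconstant term of a curve in the orbit is tangent at its origin. -/
theorem Frame.isTan_lowest (H P : GLn N k →ₐ[k] k) (r : Fin N → ℤ) {m : ℕ} (hm : 0 < m)
    (hfix : ∀ l, F.wt r l ≠ 0 → H (F.f l) = 0)
    (hneg : ∀ l, F.wt r l < 0 → P (F.f l) = 0) (h0 : ∀ l, F.wt r l = 0 → P (F.f l) = H (F.f l))
    (hlow : ∀ l, 0 < F.wt r l → F.wt r l < m → P (F.f l) = 0) :
    F.IsTan H (fun l => if F.wt r l = m then P (F.f l) else 0) := by
  classical
  intro G hG
  let d : Fin N → (k[T;T⁻¹])ˣ := fun b =>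
    ⟨LaurentPolynomial.T (r b), LaurentPolynomial.T (-r b), by rw [← LaurentPolynomial.T_add, add_neg_cancel, LaurentPolynomial.T_zero],
      by rw [← LaurentPolynomial.T_add, neg_add_cancel, LaurentPolynomial.T_zero]⟩
  let ιL : k →ₐ[k] k[T;T⁻¹] := Algebra.ofId k _
  have hM : IsUnit ((mat (ιL.comp P)) * Matrix.diagonal fun b => (d b : k[T;T⁻¹])).det := by
    rw [Matrix.det_mul, Matrix.det_diagonal]
    exact (isUnit_det_mat _).mul (IsUnit.prod_iff.2 fun b _ => Units.isUnit _)
  let C := ptU (k := k) _ hM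
  have hTprod : ∀ l, ((∏ b, d b ^ F.w l b : (k[T;T⁻¹])ˣ) : k[T;T⁻¹]) = LaurentPolynomial.T (F.wt r l) := by
    intro l
    have hz : ∀ b (e : ℤ), ((d b ^ e : (k[T;T⁻¹])ˣ) : k[T;T⁻¹]) = LaurentPolynomial.T (r b * e) := by
      intro b e
      cases e with
      | ofNat n => simp [d, LaurentPolynomial.T_pow, mul_comm]
      | negSucc n =>
        rw [zpow_negSucc, ← inv_pow, Units.val_pow_eq_pow_val]
        show (LaurentPolynomial.T (-r b) : k[T;T⁻¹]) ^ (n + 1) = _
        rw [LaurentPolynomial.T_pow, Int.negSucc_eq]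
        congr 1
        push_cast
        ring
    rw [Units.coe_prod, Frame.wt]
    simp only [hz, CoordGrp.GLn.prod_T]
    exact congrArg _ (Finset.sum_congr rfl fun b _ => mul_comm _ _)
  let p : Fin F.r → Polynomial k := fun l => Polynomial.monomial (F.wt r l).toNat (P (F.f l))
  have hp : ∀ l, Polynomial.toLaurentAlg (p l) = C (F.f l) := fun l => by
    rw [apply_mul_diag (F.weight l) (ιL.comp P) C d (mat_ptU _ _), hTprod]
    by_cases h : F.wt r l < 0
    · simp [p, hneg l h]
    · simp only [p]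
      rw [Polynomial.toLaurentAlg_apply, ← Polynomial.C_mul_X_pow_eq_monomial,
        Polynomial.toLaurent_C_mul_X_pow, Int.toNat_of_nonneg (not_lt.1 h)]
      rfl
  have hp0 : MvPolynomial.aeval p G = 0 := by
    apply Polynomial.toLaurent_injective
    rw [map_zero, ← Polynomial.toLaurentAlg_apply, ← AlgHom.comp_apply, MvPolynomial.comp_aeval]
    simp only [hp]
    rw [← MvPolynomial.comp_aeval, AlgHom.comp_apply, RingHom.mem_ker.1 hG, map_zero]
  let I : Ideal (Polynomial k) := Ideal.span {Polynomial.X ^ (m + 1)}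
  let mk := Ideal.Quotient.mkₐ k I
  let τm : Polynomial k ⧸ I := mk (Polynomial.X ^ m)
  have hτ : τm * τm = 0 := by
    rw [← map_mul, ← pow_add, Ideal.Quotient.mkₐ_eq_mk, Ideal.Quotient.eq_zero_iff_mem, Ideal.mem_span_singleton]
    exact pow_dvd_pow _ (by omega)
  let j : k[ε] →ₐ[k] Polynomial k ⧸ I := DualNumber.lift ⟨(Algebra.ofId k _, τm), hτ, fun a => Commute.all _ _⟩
  have hj : Function.Injective j := by
    refine (injective_iff_map_eq_zero j).2 fun x hx => ?_
    have hx' : mk (Polynomial.C x.fst + Polynomial.C x.snd * Polynomial.X ^ m) = 0 := by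
      rw [← hx, DualNumber.lift_apply_apply, map_add, map_mul]
      rfl
    rw [Ideal.Quotient.mkₐ_eq_mk, Ideal.Quotient.eq_zero_iff_mem, Ideal.mem_span_singleton,
      Polynomial.X_pow_dvd_iff] at hx'
    have e0 := hx' 0 (by omega)
    have em := hx' m (by omega)
    simp [Polynomial.coeff_C, Polynomial.coeff_X_pow, hm.ne'] at e0 em
    exact TrivSqZeroExt.ext (by simpa [hm.ne, hm.ne'] using e0) (by simpa [hm.ne, hm.ne'] using em)
  apply hj
  rw [map_zero, dval, ← AlgHom.comp_apply, MvPolynomial.comp_aeval,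
    ← map_zero mk, ← hp0, ← AlgHom.comp_apply mk, MvPolynomial.comp_aeval]
  refine congrFun (congrArg DFunLike.coe (congrArg MvPolynomial.aeval (funext fun l => ?_))) G
  rw [DualNumber.lift_apply_apply]
  simp only [fst_add, fst_inl, fst_inr, add_zero, snd_add, snd_inl, snd_inr, zero_add]
  rcases lt_trichotomy (F.wt r l) 0 with h | h | h
  · have hne : F.wt r l ≠ (m : ℤ) := by omega
    simp [p, hneg l h, hfix l h.ne, hne]
  · have hne : F.wt r l ≠ (m : ℤ) := by omega
    simp only [hne, if_false, map_zero, zero_mul, add_zero]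
    simp [p, h, h0 l h, Polynomial.monomial_zero_left]
    rfl
  · rw [hfix l h.ne', map_zero, zero_add]
    rcases lt_trichotomy (F.wt r l) m with h' | h' | h'
    · simp [p, hlow l h h', h'.ne]
    · simp only [h', if_true, p, Int.toNat_natCast, ← Polynomial.C_mul_X_pow_eq_monomial, map_mul]
      rfl
    · simp only [h'.ne', if_false, map_zero, zero_mul]
      rw [eq_comm, Ideal.Quotient.mkₐ_eq_mk, Ideal.Quotient.eq_zero_iff_mem, Ideal.mem_span_singleton,
        show p l = Polynomial.monomial (F.wt r l).toNat (P (F.f l)) from rfl, ← Polynomial.C_mul_X_pow_eq_monomial]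
      exact Dvd.dvd.mul_left (pow_dvd_pow _ (by omega)) _

end Groth.Agent.HM8
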